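import Cfsg.Agent.Lib.LocalEven.S4Section
import Cfsg.Agent.Lib.Fusion.SectionFreeFactor
import Cfsg.Agent.Lib.Fusion.SectionFree
import Cfsg.Prelude.Def_Transfer
import Cfsg.Agent.Lib.Techniques.SylIn

/-!
Inverted elements of odd order in groups without a section `S₄`: on an elementary abelian
`2`-group an inverting element has at least four cosets of fixed points.
-/

set_option autoImplicit false

namespace CfsgLib.LocalEven.S4W

open Cfsg Equiv

variable {G : Type*} [Group G]

theorem sq_one {V : Subgroup G} (hV : IsElementaryAbelian 2 V) {v : G} (hv : v ∈ V) :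
    v * v = 1 := by
  have := hV.2 v hv; rwa [sq] at this

theorem comm_el {V : Subgroup G} (hV : IsElementaryAbelian 2 V) {v w : G} (hv : v ∈ V)
    (hw : w ∈ V) : v * w = w * v :=
  haveI := hV.1
  congrArg Subtype.val (mul_comm' (⟨v, hv⟩ : V) ⟨w, hw⟩)

theorem le_centralizer_el {V : Subgroup G} (hV : IsElementaryAbelian 2 V) :
    V ≤ Subgroup.centralizer (V : Set G) :=
  fun v hv => Subgroup.mem_centralizer_iff.2 fun _ hw => comm_el hV hw hv

theorem isPGroup_el {V : Subgroup G} (hV : IsElementaryAbelian 2 V) : IsPGroup 2 V :=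
  fun v => ⟨1, by rw [pow_one]; exact Subtype.ext (hV.2 v v.2)⟩

theorem el_mono {V V' : Subgroup G} (hV : IsElementaryAbelian 2 V) (h : V' ≤ V) :
    IsElementaryAbelian 2 V' :=
  ⟨⟨⟨fun a b => Subtype.ext (comm_el hV (h a.2) (h b.2))⟩⟩, fun a ha => hV.2 a (h ha)⟩

theorem el_map {G' : Type*} [Group G'] (f : G →* G') {V : Subgroup G}
    (hV : IsElementaryAbelian 2 V) : IsElementaryAbelian 2 (V.map f) := by
  refine ⟨⟨⟨fun ⟨_, a, ha, ea⟩ ⟨_, b, hb, eb⟩ => Subtype.ext ?_⟩⟩, ?_⟩
  · subst ea eb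
    show f a * f b = f b * f a
    rw [← map_mul, comm_el hV ha hb, map_mul]
  · rintro _ ⟨a, ha, rfl⟩
    rw [← map_pow, hV.2 a ha, map_one]

/-- An element with its square and an odd power in a subgroup lies in it. -/
theorem mem_of_sq_of_pow {H : Subgroup G} {x : G} {n : ℕ} (hn : Odd n) (h2 : x * x ∈ H)
    (h : x ^ n ∈ H) : x ∈ H := by
  obtain ⟨m, rfl⟩ := hn
  rw [pow_succ, pow_mul, sq] at h
  simpa using H.mul_mem (H.inv_mem (H.pow_mem h2 m)) h

theorem conj_conj_eq {g h v : G} : g * (h * v * h⁻¹) * g⁻¹ = g * h * v * (g * h)⁻¹ := by group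

theorem conj_of_mem_centralizer {V : Subgroup G} {k v : G}
    (hk : k ∈ Subgroup.centralizer (V : Set G)) (hv : v ∈ V) : k * v * k⁻¹ = v := by
  rw [← Subgroup.mem_centralizer_iff.1 hk v hv, mul_inv_cancel_right]

theorem conj_mem {H : Subgroup G} {g v : G} (hg : g ∈ Subgroup.normalizer (H : Set G)) (hv : v ∈ H) :
    g * v * g⁻¹ ∈ H := (Subgroup.mem_normalizer_iff.1 hg v).1 hv

/-- Without a section `S₄`, the fixed points of an element inverting a nontrivial odd element
have index at least four. -/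
theorem four_le [Finite G] {L V : Subgroup G} {a x : G}
    (hfree : ¬ Involves (Perm (Fin 4)) L) (hV : IsElementaryAbelian 2 V) (hVL : V ≤ L)
    (ha : a ∈ L) (hx : x ∈ L) (haV : a ∈ Subgroup.normalizer (V : Set G))
    (hxV : x ∈ Subgroup.normalizer (V : Set G)) (ha2 : a * a ∈ Subgroup.centralizer (V : Set G))
    (hinv : a * x * a⁻¹ * x ∈ Subgroup.centralizer (V : Set G)) {n : ℕ} (hn : Odd n)
    (hxn : x ^ n ∈ Subgroup.centralizer (V : Set G))
    (hne : x ∉ Subgroup.centralizer (V : Set G)) :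
    4 ≤ (Subgroup.centralizer ({a} : Set G)).relIndex V := by
  by_contra hlt
  push Not at hlt
  set C := (Subgroup.centralizer ({a} : Set G)).subgroupOf V with hCdef
  have hmemC : ∀ {v : G} (hv : v ∈ V), (⟨v, hv⟩ : V) ∈ C ↔ a * v * a⁻¹ = v := fun {v} hv => by
    rw [hCdef, Subgroup.mem_subgroupOf, Subgroup.mem_centralizer_singleton_iff, mul_inv_eq_iff_eq_mul]
    exact eq_comm
  -- conjugation by `a x a⁻¹` and by `x⁻¹` agree on `V`
  have hax : ∀ v ∈ V, a * x * a⁻¹ * v * (a * x * a⁻¹)⁻¹ = x⁻¹ * v * x := by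
    intro v hv
    have h1 : x⁻¹ * v * x ∈ V := by simpa using conj_mem (Subgroup.inv_mem _ hxV) hv
    have h2 := conj_of_mem_centralizer hinv h1
    calc a * x * a⁻¹ * v * (a * x * a⁻¹)⁻¹
        = a * x * a⁻¹ * x * (x⁻¹ * v * x) * (a * x * a⁻¹ * x)⁻¹ := by group
      _ = _ := h2
  have hCd : C.index ∣ Nat.card V := C.index_dvd_card
  obtain ⟨k, hk⟩ := IsPGroup.iff_card.1 (isPGroup_el hV)
  obtain ⟨j, -, hj⟩ := (Nat.dvd_prime_pow Nat.prime_two).1 (hk ▸ hCd)
  have hj1 : j < 2 := by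
    by_contra h
    have : 2 ^ 2 ≤ 2 ^ j := Nat.pow_le_pow_right (by norm_num) (not_lt.1 h)
    have hlt' : C.index < 4 := hlt
    omega
  rcases (show j = 0 ∨ j = 1 by omega) with rfl | rfl
  · -- `a` centralises `V`
    rw [pow_zero, Subgroup.index_eq_one] at hj
    have hfix : ∀ v ∈ V, a * v * a⁻¹ = v := fun v hv => (hmemC hv).1 (hj ▸ Subgroup.mem_top _)
    refine hne (mem_of_sq_of_pow hn (Subgroup.mem_centralizer_iff.2 fun v hv => ?_) hxn)
    have h1 : x * v * x⁻¹ ∈ V := conj_mem hxV hv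
    have h2 : x * (x * v * x⁻¹) * x⁻¹ = v := by
      have e := hax v hv
      have h3 : x⁻¹ * v * x ∈ V := by simpa using conj_mem (Subgroup.inv_mem _ hxV) hv
      have h4 : a * x * a⁻¹ * v * (a * x * a⁻¹)⁻¹ = x * v * x⁻¹ := by
        have h5 : a⁻¹ * v * a = v := by
          conv_lhs => rw [← hfix v hv]
          group
        calc _ = a * (x * (a⁻¹ * v * a) * x⁻¹) * a⁻¹ := by group
          _ = a * (x * v * x⁻¹) * a⁻¹ := by rw [h5]
          _ = _ := hfix _ h1
      rw [← h4, e]; group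
    calc v * (x * x) = x * (x * v * x⁻¹) * x⁻¹ * (x * x) := by rw [h2]
      _ = x * x * v := by group
  · -- `a` is a transvection
    rw [pow_one] at hj
    obtain ⟨⟨v₀, hv₀⟩, hv₀C⟩ : ∃ v : V, v ∉ C := by
      by_contra h
      push Not at h
      rw [(Subgroup.eq_top_iff' C).2 h, Subgroup.index_top] at hj
      norm_num at hj
    set c := v₀ * (a * v₀ * a⁻¹) with hc
    have hav₀ := conj_mem haV hv₀
    have hcV : c ∈ V := V.mul_mem hv₀ hav₀
    have hc1 : c ≠ 1 := fun h => hv₀C ((hmemC hv₀).2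
      ((inv_eq_of_mul_eq_one_right h).symm.trans (inv_eq_of_mul_eq_one_right (sq_one hV hv₀))))
    have hac : a * c * a⁻¹ = c := by
      have h2 := conj_of_mem_centralizer ha2 hv₀
      calc a * c * a⁻¹ = (a * v₀ * a⁻¹) * (a * a * v₀ * (a * a)⁻¹) := by rw [hc]; group
        _ = (a * v₀ * a⁻¹) * v₀ := by rw [h2]
        _ = c := comm_el hV hav₀ hv₀
    have htr : ∀ w ∈ V, a * w * a⁻¹ = w ∨ a * w * a⁻¹ = w * c := by
      intro w hw
      by_cases hwC : (⟨w, hw⟩ : V) ∈ C
      · exact Or.inl ((hmemC hw).1 hwC)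
      refine Or.inr ?_
      have h : (⟨v₀, hv₀⟩ : V) * ⟨w, hw⟩ ∈ C :=
        (Subgroup.mul_mem_iff_of_index_two hj).2 ⟨fun h => absurd h hv₀C, fun h => absurd h hwC⟩
      have h' : a * (v₀ * w) * a⁻¹ = v₀ * w := (hmemC (V.mul_mem hv₀ hw)).1 h
      have h'' : a * w * a⁻¹ = (a * v₀ * a⁻¹)⁻¹ * (v₀ * w) := by
        conv_rhs => rw [← h']
        group
      rw [h'', inv_eq_of_mul_eq_one_right (sq_one hV hav₀), ← mul_assoc, comm_el hV hav₀ hv₀, ← hc,
        comm_el hV hcV hw]
    set c' := x * c * x⁻¹ with hc'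
    have hc'V : c' ∈ V := conj_mem hxV hcV
    have hc'1 : c' ≠ 1 := fun h => hc1 (by simpa [hc'] using h)
    have hac' : a * c' * a⁻¹ = x⁻¹ * c * x := by
      rw [← hax c hcV]
      have h5 : a⁻¹ * c * a = c := by
        conv_lhs => rw [← hac]
        group
      calc a * c' * a⁻¹ = a * (x * (a⁻¹ * c * a) * x⁻¹) * a⁻¹ := by rw [h5]
        _ = _ := by group
    by_cases hcc : c' = c
    · -- the two transvections have the same centre
      have hxc : x * c * x⁻¹ = c := hcc
      have hstep : ∀ w ∈ V, x * x * w * (x * x)⁻¹ = w ∨ x * x * w * (x * x)⁻¹ = w * c := by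
        intro w hw
        set u := x * x * w * (x * x)⁻¹ with hu
        have huV : u ∈ V := conj_mem (Subgroup.mul_mem _ hxV hxV) hw
        have hxw : x * w * x⁻¹ ∈ V := conj_mem hxV hw
        -- `x u⁻¹` expressed through the two transvections
        have h1 : a * (x * w * x⁻¹) * a⁻¹ = x⁻¹ * (a * w * a⁻¹) * x := by
          rw [← hax _ (conj_mem haV hw)]; group
        have h2 : x * (a * (x * w * x⁻¹) * a⁻¹) * x⁻¹ = a * w * a⁻¹ := by rw [h1]; group
        have h3 : u = x * (x * w * x⁻¹) * x⁻¹ := by rw [hu]; group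
        have hcinv : ∀ z : G, z * c * c = z := fun z => by rw [mul_assoc, sq_one hV hcV, mul_one]
        rcases htr _ hxw with e | e <;> rcases htr w hw with e' | e' <;> rw [e, e'] at h2
        · exact Or.inl (h3.trans h2)
        · exact Or.inr (h3.trans h2)
        · have h4 : x * (x * w * x⁻¹) * x⁻¹ * (x * c * x⁻¹) = w := by
            calc _ = x * (x * w * x⁻¹ * c) * x⁻¹ := by group
              _ = w := h2
          rw [hxc, ← h3] at h4
          exact Or.inr (by rw [← h4, hcinv])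
        · have h4 : x * (x * w * x⁻¹) * x⁻¹ * (x * c * x⁻¹) = w * c := by
            calc _ = x * (x * w * x⁻¹ * c) * x⁻¹ := by group
              _ = w * c := h2
          rw [hxc, ← h3] at h4
          exact Or.inl (mul_right_cancel h4)
      refine hne (mem_of_sq_of_pow hn (mem_of_sq_of_pow hn
        (Subgroup.mem_centralizer_iff.2 fun w hw => ?_) ?_) hxn)
      · have h2c : x * x * c * (x * x)⁻¹ = c := by
          calc _ = x * (x * c * x⁻¹) * x⁻¹ := by group
            _ = c := by rw [hxc, hxc]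
        have e : x * x * (x * x) * w * (x * x * (x * x))⁻¹ = w := by
          rw [show x * x * (x * x) * w * (x * x * (x * x))⁻¹
              = x * x * (x * x * w * (x * x)⁻¹) * (x * x)⁻¹ by group]
          rcases hstep w hw with e | e <;> rw [e]
          · exact e
          · rw [show x * x * (w * c) * (x * x)⁻¹
              = (x * x * w * (x * x)⁻¹) * (x * x * c * (x * x)⁻¹) by group, e, h2c, mul_assoc,
              sq_one hV hcV, mul_one]
        calc w * (x * x * (x * x)) = x * x * (x * x) * w * (x * x * (x * x))⁻¹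
              * (x * x * (x * x)) := by rw [e]
          _ = _ := by group
      · rw [(Commute.refl x).mul_pow]; exact Subgroup.mul_mem _ hxn hxn
    · -- the centres span a four-group carrying `S₃`
      rcases htr c' hc'V with e | e
      · -- then `x²` fixes `c`
        refine hcc ?_
        have h2 : x * x * c * (x * x)⁻¹ = c := by
          have : x⁻¹ * c * x = c' := hac'.symm.trans e
          calc x * x * c * (x * x)⁻¹ = x * c' * x⁻¹ := by rw [hc']; group
            _ = c := by rw [← this]; group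
        have hmem : x ∈ Subgroup.centralizer ({c} : Set G) := by
          refine mem_of_sq_of_pow hn (Subgroup.mem_centralizer_singleton_iff.2 ?_)
            (Subgroup.mem_centralizer_singleton_iff.2 ?_)
          · exact mul_inv_eq_iff_eq_mul.1 h2
          · exact (Subgroup.mem_centralizer_iff.1 hxn c hcV).symm
        rw [hc', mul_inv_eq_iff_eq_mul]
        exact Subgroup.mem_centralizer_singleton_iff.1 hmem
      · have e2 : x⁻¹ * c * x = c' * c := hac'.symm.trans e
        have e3 : x * (c' * c) * x⁻¹ = c := by rw [← e2]; group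
        have hkf : x * c' * x⁻¹ = c * c' := by
          have h : x * c' * x⁻¹ * c' = c := by
            calc _ = x * (c' * c) * x⁻¹ := by rw [hc']; group
              _ = c := e3
          calc x * c' * x⁻¹ = x * c' * x⁻¹ * c' * c' := by
                rw [mul_assoc _ c' c', sq_one hV hc'V, mul_one]
            _ = c * c' := by rw [h]
        refine hfree (involves_perm_four (G := L) (e := ⟨c, hVL hcV⟩) (f := ⟨c', hVL hc'V⟩)
          (k := ⟨x, hx⟩) (b := ⟨a, ha⟩) (Subtype.ext (sq_one hV hcV)) (Subtype.ext (sq_one hV hc'V))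
          (Subtype.ext (comm_el hV hc'V hcV)) (fun h => hc1 (congrArg Subtype.val h))
          (fun h => hc'1 (congrArg Subtype.val h)) (fun h => hcc (congrArg Subtype.val h).symm)
          (Subtype.ext hc'.symm) (Subtype.ext hkf) (Subtype.ext hac)
          (Subtype.ext (e.trans (comm_el hV hc'V hcV))))

/-- The same for a section `V / I`. -/
theorem four_le_mod [Finite G] {L V I F : Subgroup G} {a x : G}
    (hfree : ¬ Involves (Perm (Fin 4)) L) (hVL : V ≤ L) (hIV : I ≤ V)
    (hVI : V ≤ Subgroup.normalizer (I : Set G)) (hV : ∀ v ∈ V, v * v ∈ I)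
    (ha : a ∈ L) (hx : x ∈ L) (haV : a ∈ Subgroup.normalizer (V : Set G))
    (hxV : x ∈ Subgroup.normalizer (V : Set G)) (haI : a ∈ Subgroup.normalizer (I : Set G))
    (hxI : x ∈ Subgroup.normalizer (I : Set G)) (ha2 : a * a = 1)
    (hinv : a * x * a⁻¹ = x⁻¹) (hn : Odd (orderOf x))
    (hne : ∃ v ∈ V, x * v * x⁻¹ * v⁻¹ ∉ I)
    (hF : ∀ v ∈ V, a * v * a⁻¹ * v⁻¹ ∈ I → v ∈ F) (hF' : ∀ v ∈ V, v ∈ F → a * v * a⁻¹ * v⁻¹ ∈ I) :
    4 ≤ F.relIndex V := by
  set H := L ⊓ Subgroup.normalizer (I : Set G) with hH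
  have hIn : (I.subgroupOf H).Normal :=
    Subgroup.normal_subgroupOf_iff (hIV.trans (le_inf hVL hVI)) |>.2 fun i g hi hg =>
      conj_mem hg.2 hi
  set π := QuotientGroup.mk' (I.subgroupOf H) with hπ
  have hπs : Function.Surjective π := QuotientGroup.mk'_surjective _
  have hfree' : ¬ Involves (Perm (Fin 4)) (⊤ : Subgroup (H ⧸ I.subgroupOf H)) := fun h => hfree
    (Fusion.involves_of_injective (Subgroup.inclusion (inf_le_left : H ≤ L))
      (Subgroup.inclusion_injective _) (Fusion.involves_of_quotient π hπs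
        (Fusion.involves_of_injective (⊤ : Subgroup (H ⧸ I.subgroupOf H)).subtype
          Subtype.val_injective h)))
  have hπ1 : ∀ g : H, π g = 1 ↔ (g : G) ∈ I := fun g => by
    rw [hπ, QuotientGroup.mk'_apply, QuotientGroup.eq_one_iff, Subgroup.mem_subgroupOf]
  set V' := (V.subgroupOf H).map π with hV'
  have hVH : V ≤ H := le_inf hVL hVI
  have hel : IsElementaryAbelian 2 V' := by
    have hsq : ∀ v ∈ V', v * v = 1 := by
      rintro _ ⟨v, hv, rfl⟩
      rw [← map_mul, hπ1]
      exact hV v hv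
    refine ⟨⟨⟨fun ⟨u, hu⟩ ⟨v, hv⟩ => Subtype.ext ?_⟩⟩, fun v hv => by rw [sq]; exact hsq v hv⟩
    show u * v = v * u
    calc u * v = (u * v)⁻¹ := (inv_eq_of_mul_eq_one_right (hsq _ (V'.mul_mem hu hv))).symm
      _ = v * u := by
        rw [mul_inv_rev, inv_eq_of_mul_eq_one_right (hsq v hv),
          inv_eq_of_mul_eq_one_right (hsq u hu)]
  set a' : H := ⟨a, ha, haI⟩
  set x' : H := ⟨x, hx, hxI⟩
  have hnorm : ∀ g : H, (g : G) ∈ Subgroup.normalizer (V : Set G) →
      π g ∈ Subgroup.normalizer (V' : Set (H ⧸ I.subgroupOf H)) := fun g hg =>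
    mem_normalizer_of_conj_mem (by
      rintro _ ⟨v, hv, rfl⟩
      exact ⟨g * v * g⁻¹, Subgroup.mem_subgroupOf.2 (conj_mem hg (show (v : G) ∈ V from hv)), by simp⟩)
  have h4 := four_le (L := ⊤) (a := π a') (x := π x') hfree' hel le_top
    (Subgroup.mem_top _) (Subgroup.mem_top _) (hnorm a' haV) (hnorm x' hxV)
    (by rw [← map_mul, show a' * a' = 1 from Subtype.ext ha2, map_one]; exact one_mem _)
    (by
      rw [← map_inv, ← map_mul, ← map_mul, ← map_mul,
        show a' * x' * a'⁻¹ * x' = 1 from Subtype.ext (show a * x * a⁻¹ * x = 1 by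
          rw [hinv, inv_mul_cancel]), map_one]
      exact one_mem _)
    hn
    (by rw [← map_pow, show x' ^ orderOf x = 1 from Subtype.ext (pow_orderOf_eq_one x), map_one]
        exact one_mem _)
    (by
      intro h
      obtain ⟨v, hv, hvI⟩ := hne
      refine hvI ((hπ1 (x' * ⟨v, hVH hv⟩ * x'⁻¹ * ⟨v, hVH hv⟩⁻¹)).1 ?_)
      simp only [map_mul, map_inv]
      rw [conj_of_mem_centralizer h ⟨⟨v, hVH hv⟩, hv, rfl⟩, mul_inv_cancel])
  refine h4.trans (le_of_eq ?_)
  rw [hV', ← Subgroup.relIndex_comap, ← Subgroup.relIndex_map_map_of_injective _ _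
    (Subgroup.subtype_injective H), Subgroup.map_subgroupOf_eq_of_le hVH,
    ← Subgroup.inf_relIndex_right, ← Subgroup.inf_relIndex_right F]
  congr 1
  ext v
  constructor
  · rintro ⟨⟨g, hg, rfl⟩, hv⟩
    refine ⟨hF _ hv ?_, hv⟩
    have h := Subgroup.mem_centralizer_singleton_iff.1 hg
    refine (hπ1 (a' * g * a'⁻¹ * g⁻¹)).1 ?_
    simp only [map_mul, map_inv]
    rw [← h]; group
  · rintro ⟨hvF, hv⟩
    refine ⟨⟨⟨v, hVH hv⟩, Subgroup.mem_centralizer_singleton_iff.2 ?_, rfl⟩, hv⟩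
    have h : π (a' * ⟨v, hVH hv⟩ * a'⁻¹ * ⟨v, hVH hv⟩⁻¹) = 1 := (hπ1 _).2 (hF' v hv hvF)
    simp only [map_mul, map_inv, mul_inv_eq_one] at h
    exact (mul_inv_eq_iff_eq_mul.1 h).symm

/-- An inverted element with odd image has an odd order representative. -/
theorem exists_odd_lift [Finite G] {G' : Type*} [Group G'] (f : G →* G') {a y : G}
    (hinv : a * y * a⁻¹ = y⁻¹) (hodd : Odd (orderOf (f y))) :
    ∃ x ∈ Subgroup.zpowers y, Odd (orderOf x) ∧ a * x * a⁻¹ = x⁻¹ ∧ f x = f y := by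
  obtain ⟨s, m, hm, hord⟩ := Nat.exists_eq_pow_mul_and_not_dvd (orderOf_pos y).ne' 2 (by norm_num)
  have hmo : Odd m := Nat.odd_iff.2 (by omega)
  have hcop : Nat.Coprime (2 ^ s) m := Nat.Coprime.pow_left _
    (Nat.prime_two.coprime_iff_not_dvd.2 hm)
  obtain ⟨e, he0, he1⟩ := Nat.chineseRemainder hcop 0 1
  have hdiv : orderOf (f y) ∣ m := by
    have h := orderOf_map_dvd f y
    rw [hord] at h
    exact (Nat.Coprime.pow_right _ (Nat.coprime_two_right.2 hodd)).dvd_of_dvd_mul_left h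
  refine ⟨y ^ e, Subgroup.pow_mem _ (Subgroup.mem_zpowers y) e, ?_, ?_, ?_⟩
  · refine hmo.of_dvd_nat (orderOf_dvd_of_pow_eq_one ?_)
    rw [← pow_mul]
    refine orderOf_dvd_iff_pow_eq_one.1 ?_
    rw [hord]
    exact Nat.mul_dvd_mul (Nat.modEq_zero_iff_dvd.1 he0) dvd_rfl
  · rw [← conj_pow, hinv, inv_pow]
  · rw [map_pow]
    conv_rhs => rw [← pow_one (f y)]
    exact pow_eq_pow_iff_modEq.2 (he1.of_dvd hdiv)

end CfsgLib.LocalEven.S4W
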