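import Cfsg.Agent.Lib.LocalEven.S4Solvable.Basic
import Cfsg.Agent.Lib.Coprime.Action2
import Cfsg.Agent.Lib.FgsC.HallHigmanB
import Cfsg.Agent.Lib.PLocal.PSolvable
import Cfsg.Agent.Lib.Base.Cores

/-!
In a solvable group without a section `S₄` acting on a module generated by the conjugates of a
subspace fixed by a Sylow `2`-subgroup, an elementary abelian `2`-group `E` of operators
satisfies `|E|² ≤ |V : C_V(E)|`.
-/

set_option autoImplicit false

namespace CfsgLib.LocalEven.S4W

open Cfsg Equiv CfsgLib.Techniques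

variable {G : Type*} [Group G]

/-- Elementary abelian operator groups from `L` on `W` are small. -/
def Bdd (L W : Subgroup G) : Prop :=
  ∀ E ≤ L, (∀ e ∈ E, e * e ∈ Subgroup.centralizer (W : Set G)) →
    (∀ e ∈ E, ∀ f ∈ E, e * f * e⁻¹ * f⁻¹ ∈ Subgroup.centralizer (W : Set G)) →
    (Subgroup.centralizer (W : Set G)).relIndex E ^ 2 ≤
      (Subgroup.centralizer (E : Set G)).relIndex W

theorem centralizer_cj (g : G) (W : Subgroup G) :
    Subgroup.centralizer (cj g W : Set G) = cj g (Subgroup.centralizer (W : Set G)) := by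
  ext y
  rw [mem_cj, Subgroup.mem_centralizer_iff, Subgroup.mem_centralizer_iff]
  constructor
  · intro h w hw
    have h' := h _ (conj_mem_cj.2 hw)
    calc w * (g⁻¹ * y * g) = g⁻¹ * (g * w * g⁻¹ * y) * g := by group
      _ = g⁻¹ * (y * (g * w * g⁻¹)) * g := by rw [h']
      _ = g⁻¹ * y * g * w := by group
  · intro h w hw
    have h' := h _ (mem_cj.1 hw)
    calc w * y = g * ((g⁻¹ * w * g) * (g⁻¹ * y * g)) * g⁻¹ := by group
      _ = g * ((g⁻¹ * y * g) * (g⁻¹ * w * g)) * g⁻¹ := by rw [h']
      _ = y * w := by group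

theorem relIndex_cj (g : G) (H K : Subgroup G) : (cj g H).relIndex (cj g K) = H.relIndex K :=
  Subgroup.relIndex_map_map_of_injective H K (MulAut.conj g).injective

theorem Bdd.conj {L W : Subgroup G} (h : Bdd L W) (g : G) : Bdd (cj g L) (cj g W) := by
  intro E hE h2 hc
  have hE' : cj g⁻¹ E ≤ L := by
    rw [← cj_inv_cj g L]; exact cj_mono hE
  have hmem : ∀ {y : G}, y ∈ Subgroup.centralizer (cj g W : Set G) →
      g⁻¹ * y * g ∈ Subgroup.centralizer (W : Set G) := fun hy => mem_cj.1 (centralizer_cj g W ▸ hy)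
  have := h (cj g⁻¹ E) hE' (by
      rintro _ ⟨e, he, rfl⟩
      simpa [mul_assoc] using hmem (h2 e he)) (by
      rintro _ ⟨e, he, rfl⟩ _ ⟨f, hf, rfl⟩
      simpa [mul_assoc] using hmem (hc e he f hf))
  have e1 : (Subgroup.centralizer (W : Set G)).relIndex (cj g⁻¹ E) =
      (Subgroup.centralizer (cj g W : Set G)).relIndex E := by
    rw [← relIndex_cj g, cj_cj_inv, ← centralizer_cj]
  have e2 : (Subgroup.centralizer (cj g⁻¹ E : Set G)).relIndex W =
      (Subgroup.centralizer (E : Set G)).relIndex (cj g W) := by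
    rw [← relIndex_cj g, ← centralizer_cj, cj_cj_inv]
  rwa [e1, e2] at this

theorem relIndex_cj_le [Finite G] {H K : Subgroup G} (h : H ≤ K) (L : Subgroup G) :
    K.relIndex L ≤ H.relIndex L :=
  Subgroup.relIndex_le_of_le_left h Subgroup.index_ne_zero_of_finite

/-- The fixed points of a group of automorphisms. -/
def fixS {V : Type*} [Group V] (E : Subgroup (MulAut V)) : Subgroup V where
  carrier := {v | ∀ e ∈ E, e v = v}
  one_mem' e _ := map_one e
  mul_mem' {u v} hu hv e he := by rw [map_mul, hu e he, hv e he]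
  inv_mem' {u} hu e he := by rw [map_inv, hu e he]

theorem mem_fixS {V : Type*} [Group V] {E : Subgroup (MulAut V)} {v : V} :
    v ∈ fixS E ↔ ∀ e ∈ E, e v = v := Iff.rfl

theorem bdd [Finite G] {L W Z : Subgroup G} (T : Sylow 2 L) (hsol : Group.IsSolvable L)
    (hfree : ¬ Involves (Perm (Fin 4)) L) (hW : IsElementaryAbelian 2 W) (hWL : W ≤ L)
    (hLW : L ≤ Subgroup.normalizer (W : Set G))
    (hgen : W = Subgroup.closure {y | ∃ l ∈ L, ∃ z ∈ Z, y = l * z * l⁻¹})
    (hT : ∀ t : L, t ∈ T → ∀ z ∈ Z, (t : G) * z = z * t) : Bdd L W := by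
  haveI : Fact (Nat.Prime 2) := ⟨Nat.prime_two⟩
  set φ : L →* MulAut W := (Subgroup.normalizerMonoidHom W).comp (Subgroup.inclusion hLW) with hφdef
  have hφ : ∀ (l : L) (w : W), ((φ l w : W) : G) = l * w * (l : G)⁻¹ := fun l w => rfl
  set f := φ.rangeRestrict with hf
  have hfs : Function.Surjective f := φ.rangeRestrict_surjective
  have hfval : ∀ (l : L) (w : W), (((f l : φ.range) : MulAut W) w : G) = l * w * (l : G)⁻¹ :=
    fun l w => rfl
  -- the image has no normal `2`-subgroup
  have hO : pCore 2 φ.range = ⊥ := by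
    rw [eq_bot_iff]
    intro k hk
    rw [Subgroup.mem_bot]
    have hgz : ∀ r ∈ pCore 2 φ.range, ∀ z (hz : z ∈ W), z ∈ Z →
        (((r : φ.range) : MulAut W) ⟨z, hz⟩ : G) = z := by
      intro r hr z hz hzZ
      obtain ⟨t, ht, rfl⟩ := Base.pCore_le_sylow (T.mapSurjective hfs) hr
      rw [hfval]
      show (t : G) * z * (t : G)⁻¹ = z
      rw [hT t ht z hzZ, mul_inv_cancel_right]
    apply Subtype.ext
    refine MulEquiv.ext fun ⟨w, hw⟩ => Subtype.ext ?_
    have hle : W ≤ ((MonoidHom.eqLocus (W.subtype.comp ((k : φ.range) : MulAut W).toMonoidHom)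
        W.subtype)).map W.subtype := by
      conv_lhs => rw [hgen]
      rw [Subgroup.closure_le]
      rintro _ ⟨l, hl, z, hz, rfl⟩
      have hzW : z ∈ W := by
        rw [hgen]; exact Subgroup.subset_closure ⟨1, L.one_mem, z, hz, by group⟩
      refine ⟨⟨l * z * l⁻¹, conj_mem (hLW hl) hzW⟩, ?_, rfl⟩
      show (((k : φ.range) : MulAut W) ⟨l * z * l⁻¹, _⟩ : G) = l * z * l⁻¹
      have hr := hgz _ ((pCore 2 φ.range).inv_mem
        (Subgroup.Normal.conj_mem inferInstance _ ((pCore 2 φ.range).inv_mem hk) (f ⟨l, hl⟩)⁻¹))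
        z hzW hz
      have e1 : (f ⟨l, hl⟩)⁻¹ * k * f ⟨l, hl⟩
          = ((f ⟨l, hl⟩)⁻¹ * k⁻¹ * (f ⟨l, hl⟩)⁻¹⁻¹)⁻¹ := by group
      have e2 : (⟨l * z * l⁻¹, conj_mem (hLW hl) hzW⟩ : W)
          = ((f ⟨l, hl⟩ : φ.range) : MulAut W) ⟨z, hzW⟩ := Subtype.ext (hfval ⟨l, hl⟩ ⟨z, hzW⟩).symm
      have e3 : ((k : φ.range) : MulAut W) (((f ⟨l, hl⟩ : φ.range) : MulAut W) ⟨z, hzW⟩)
          = ((f ⟨l, hl⟩ : φ.range) : MulAut W) ((((f ⟨l, hl⟩)⁻¹ * k * f ⟨l, hl⟩ : φ.range) : MulAut W)
            ⟨z, hzW⟩) := by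
        rw [← MulAut.mul_apply, ← MulAut.mul_apply, ← Subgroup.coe_mul, ← Subgroup.coe_mul]
        rw [show f ⟨l, hl⟩ * ((f ⟨l, hl⟩)⁻¹ * k * f ⟨l, hl⟩) = k * f ⟨l, hl⟩ by group]
      have e4 : (((f ⟨l, hl⟩)⁻¹ * k * f ⟨l, hl⟩ : φ.range) : MulAut W) ⟨z, hzW⟩ = ⟨z, hzW⟩ := by
        rw [e1]; exact Subtype.ext hr
      rw [e2, e3, e4, hfval]
    obtain ⟨⟨w', hw'⟩, he, hew⟩ := hle hw
    obtain rfl : w' = w := hew
    exact he
  have hsolR : Group.IsSolvable φ.range := Group.isSolvable_of_surjective hfs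
  set K := pPrimeCore 2 φ.range with hK
  have hKC : Subgroup.centralizer (K : Set φ.range) ≤ K :=
    FgsC.HallHigmanB.centralizer_pPrimeCore_le PLocal.isPSolvable_of_isSolvable hO
  have hsq : ∀ w : W, w * w = 1 := fun w => Subtype.ext (sq_one hW w.2)
  have key : ∀ n, ∀ E : Subgroup φ.range, Nat.card E ≤ n → IsElementaryAbelian 2 E →
      Nat.card E ^ 2 ≤ (fixS (E.map φ.range.subtype)).index := by
    intro n
    induction n with
    | zero => intro E hE; exact absurd (Nat.card_pos (α := E)) (by omega)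
    | succ n ih =>
      intro E hn hE
      haveI := hE.1
      have hcop : (Nat.card E).Coprime (Nat.card K) := by
        obtain ⟨j, hj⟩ := IsPGroup.iff_card.1 (isPGroup_el hE)
        rw [hj]
        exact ((Base.pPrimeCore_coprime 2 _).symm).pow_left j
      haveI : K.Normal := by rw [hK]; infer_instance
      have hEK : E ≤ Subgroup.normalizer (K : Set φ.range) := by
        rw [Subgroup.normalizer_eq_top]; exact le_top
      by_cases hKE : K ≤ Subgroup.centralizer (E : Set φ.range)
      · have hEbot : E = ⊥ := by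
          have h1 : E ≤ K := (Subgroup.le_centralizer_iff.1 hKE).trans hKC
          exact inf_eq_left.2 h1 ▸ Coprime.inf_eq_bot_of_coprime hcop
        rw [hEbot, Subgroup.card_bot, one_pow]
        exact Nat.one_le_iff_ne_zero.2 Subgroup.index_ne_zero_of_finite
      obtain ⟨B, hBE, ⟨a, haE, hBa⟩, hnot⟩ : ∃ B ≤ E, (∃ a ∈ E, B ⊔ Subgroup.zpowers a = E) ∧
          ¬ K ⊓ Subgroup.centralizer (B : Set φ.range) ≤ Subgroup.centralizer (E : Set φ.range) := by
        by_contra h
        push Not at h
        exact hKE (Coprime.le_of_cyclic_quotient hEK hcop fun B hB hBc => h B hB hBc)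
      obtain ⟨k, ⟨hkK, hkB⟩, hkE⟩ := SetLike.not_le_iff_exists.1 hnot
      have hka : a * k ≠ k * a := fun h => hkE (Subgroup.mem_centralizer_iff.2 fun e he =>
        Subgroup.mem_centralizer_singleton_iff.1 ((show E ≤ Subgroup.centralizer {k} by
          rw [← hBa, sup_le_iff, Subgroup.zpowers_le]
          exact ⟨fun b hb => Subgroup.mem_centralizer_singleton_iff.2
            (Subgroup.mem_centralizer_iff.1 hkB b hb), Subgroup.mem_centralizer_singleton_iff.2 h⟩) he))
      have ha2 : a * a = 1 := sq_one hE haE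
      have hai : a⁻¹ = a := inv_eq_of_mul_eq_one_right ha2
      set x := k⁻¹ * (a * k * a⁻¹) with hx
      have hinv : a * x * a⁻¹ = x⁻¹ := by
        rw [hx]
        calc a * (k⁻¹ * (a * k * a⁻¹)) * a⁻¹ = a * k⁻¹ * a * k * (a * a)⁻¹ := by group
          _ = a * k⁻¹ * a⁻¹ * k := by rw [ha2, inv_one, mul_one, hai]
          _ = _ := by group
      have hx1 : x ≠ 1 := fun h => hka (by
        rw [hx, inv_mul_eq_one] at h
        exact (mul_inv_eq_iff_eq_mul.1 h.symm))
      have hxK : x ∈ K := K.mul_mem (K.inv_mem hkK) (‹K.Normal›.conj_mem k hkK a)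
      have hxB : ∀ b ∈ B, Commute b x := fun b hb => by
        have h1 : Commute b k := Subgroup.mem_centralizer_iff.1 hkB b hb
        have h2 : Commute b a := comm_el hE (hBE hb) haE
        exact h1.inv_right.mul_right ((h2.mul_right h1).mul_right h2.inv_right)
      have hxodd : Odd (orderOf x) := by
        refine Odd.of_dvd_nat ?_ (Subgroup.orderOf_dvd_natCard K hxK)
        exact Nat.coprime_two_right.1 (Base.pPrimeCore_coprime 2 _)
      set U := fixS (B.map φ.range.subtype) with hU
      have hUinv : ∀ g : φ.range, (∀ b ∈ B, Commute b g) → ∀ u ∈ U, (g : MulAut W) u ∈ U := by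
        rintro g hg u hu _ ⟨b, hb, rfl⟩
        have hbu : ((b : φ.range) : MulAut W) u = u := hu _ ⟨b, hb, rfl⟩
        show ((b : φ.range) : MulAut W) ((g : MulAut W) u) = (g : MulAut W) u
        rw [← MulAut.mul_apply, ← Subgroup.coe_mul, (hg b hb).eq, Subgroup.coe_mul, MulAut.mul_apply,
          hbu]
      -- `x` is nontrivial on `U`
      have hxU : ∃ u ∈ U, (x : MulAut W) u ≠ u := by
        by_contra h
        push Not at h
        let δ : W →* W := MonoidHom.mk' (fun w => w * (x : MulAut W) w) (fun u v => by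
          haveI := hW.1
          rw [map_mul, mul_assoc, ← mul_assoc v, mul_comm' v, mul_assoc, ← mul_assoc])
        have hδ : ∀ d ∈ δ.range, (∀ b ∈ B, ((b : φ.range) : MulAut W) d = d) → d = 1 := by
          rintro _ ⟨w, rfl⟩ hd
          have hfix := h _ (fun e ⟨b, hb, he⟩ => by rw [← he]; exact hd b hb)
          have hxx : ((x * x : φ.range) : MulAut W) w = w := by
            simp only [δ, MonoidHom.mk'_apply, map_mul] at hfix
            rw [Subgroup.coe_mul, MulAut.mul_apply]
            calc (x : MulAut W) ((x : MulAut W) w)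
                = ((x : MulAut W) w * (x : MulAut W) w) * (x : MulAut W) ((x : MulAut W) w) := by
                  rw [hsq, one_mul]
              _ = (x : MulAut W) w * (w * (x : MulAut W) w) := by rw [mul_assoc, hfix]
              _ = w := by
                  haveI := hW.1
                  rw [mul_comm' w, ← mul_assoc, hsq, one_mul]
          let S : Subgroup φ.range :=
            (MulAction.stabilizer (MulAut W) w).comap φ.range.subtype
          have hxS : x ∈ S := mem_of_sq_of_pow (H := S) hxodd hxx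
            (by rw [pow_orderOf_eq_one]; exact one_mem _)
          show w * (x : MulAut W) w = 1
          rw [show (x : MulAut W) w = w from hxS, hsq]
        have hDbot : δ.range = ⊥ := by
          by_contra hD
          letI : MulAction B δ.range :=
            { smul := fun b d => ⟨((b : φ.range) : MulAut W) d, by
                obtain ⟨_, w, rfl⟩ := d
                refine ⟨((b : φ.range) : MulAut W) w, ?_⟩
                simp only [δ, MonoidHom.mk'_apply, map_mul]
                rw [← MulAut.mul_apply, ← MulAut.mul_apply, ← Subgroup.coe_mul, ← Subgroup.coe_mul,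
                  (hxB b b.2).eq]⟩
              one_smul := fun d => Subtype.ext rfl
              mul_smul := fun b c d => Subtype.ext rfl }
          obtain ⟨j, hj⟩ := IsPGroup.iff_card.1 ((isPGroup_el hW).to_subgroup δ.range)
          have hdvd : 2 ∣ Nat.card δ.range := by
            rw [hj]
            refine dvd_pow_self 2 fun h0 => hD ?_
            rw [← Subgroup.card_eq_one, hj, h0, pow_zero]
          obtain ⟨d, hd, hd1⟩ := (((isPGroup_el hE).to_le hBE)
            ).exists_fixed_point_of_prime_dvd_card_of_fixed_point δ.range hdvd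
              (a := ⟨1, one_mem _⟩) (fun b => Subtype.ext (map_one _))
          exact hd1 (Subtype.ext (hδ d d.2 fun b hb => congrArg Subtype.val (hd ⟨b, hb⟩)).symm)
        refine hx1 (Subtype.ext (MulEquiv.ext fun w => ?_))
        have hw : δ w = 1 := by rw [← Subgroup.mem_bot, ← hDbot]; exact ⟨w, rfl⟩
        exact (inv_eq_of_mul_eq_one_right hw).symm.trans (inv_eq_of_mul_eq_one_right (hsq w))
      -- back in `G`
      obtain ⟨a₀, ha₀⟩ := hfs a
      obtain ⟨x₀, hx₀⟩ := hfs x
      set U₀ := U.map W.subtype with hU₀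
      have hmemU : ∀ g : φ.range, (∀ b ∈ B, Commute b g) → ∀ l : L, f l = g →
          (l : G) ∈ Subgroup.normalizer (U₀ : Set G) := fun g hg l hl =>
        mem_normalizer_of_conj_mem (by
          rintro _ ⟨u, hu, rfl⟩
          refine ⟨(g : MulAut W) u, hUinv g hg u hu, ?_⟩
          subst hl
          exact hfval l u)
      have hcenU : ∀ l : L, f l = 1 → (l : G) ∈ Subgroup.centralizer (U₀ : Set G) := fun l hl =>
        Subgroup.mem_centralizer_iff.2 (by
          rintro _ ⟨u, -, rfl⟩
          have := hfval l u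
          rw [hl] at this
          show (u : G) * l = l * u
          exact (mul_inv_eq_iff_eq_mul.1 this.symm).symm)
      have h4 := four_le (L := L) (V := U₀) (a := (a₀ : G)) (x := (x₀ : G)) hfree
        (el_mono hW (Subgroup.map_subtype_le U)) ((Subgroup.map_subtype_le U).trans hWL) a₀.2 x₀.2
        (hmemU a (fun b hb => comm_el hE (hBE hb) haE) a₀ ha₀) (hmemU x hxB x₀ hx₀)
        (hcenU (a₀ * a₀) (by rw [map_mul, ha₀, ha2]))
        (hcenU (a₀ * x₀ * a₀⁻¹ * x₀) (by
          rw [map_mul, map_mul, map_mul, map_inv, ha₀, hx₀, hinv, inv_mul_cancel]))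
        hxodd (hcenU (x₀ ^ orderOf x) (by rw [map_pow, hx₀, pow_orderOf_eq_one]))
        (fun h => by
          obtain ⟨u, hu, hne⟩ := hxU
          refine hne (Subtype.ext ?_)
          rw [← hx₀, hfval]
          exact conj_of_mem_centralizer h ⟨u, hu, rfl⟩)
      have hfix : fixS (E.map φ.range.subtype) =
          U ⊓ (Subgroup.centralizer ({(a₀ : G)} : Set G)).subgroupOf W := by
        ext w
        have hiff : (a : MulAut W) w = w ↔ (w : G) ∈ Subgroup.centralizer ({(a₀ : G)} : Set G) := by
          rw [Subgroup.mem_centralizer_singleton_iff, ← ha₀, Subtype.ext_iff, hfval,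
            mul_inv_eq_iff_eq_mul]
          exact eq_comm
        refine ⟨fun h => ⟨fun e ⟨b, hb, he⟩ => h e ⟨b, hBE hb, he⟩,
          Subgroup.mem_subgroupOf.2 (hiff.1 (h _ ⟨a, haE, rfl⟩))⟩, fun h => ?_⟩
        have hle : E ≤ (MulAction.stabilizer (MulAut W) w).comap φ.range.subtype := by
          rw [← hBa, sup_le_iff, Subgroup.zpowers_le]
          exact ⟨fun b hb => h.1 _ ⟨b, hb, rfl⟩, hiff.2 (Subgroup.mem_subgroupOf.1 h.2)⟩
        rintro _ ⟨e, he, rfl⟩
        exact hle he
      have hidx : 4 * U.index ≤ (fixS (E.map φ.range.subtype)).index := by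
        rw [hfix, ← Subgroup.relIndex_mul_index (inf_le_left : U ⊓ _ ≤ U)]
        refine Nat.mul_le_mul_right _ (h4.trans (le_of_eq ?_))
        rw [Subgroup.inf_relIndex_left, ← Subgroup.relIndex_map_map_of_injective _ U
          (Subgroup.subtype_injective W), ← hU₀, Subgroup.subgroupOf_map_subtype,
          ← Subgroup.inf_relIndex_right _ U₀]
        conv_rhs => rw [← Subgroup.inf_relIndex_right _ U₀, inf_assoc,
          inf_eq_right.2 (Subgroup.map_subtype_le U)]
      have hcardE : Nat.card E ≤ 2 * Nat.card B := by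
        have h := Coprime.card_sup_mul_card_inf (H := Subgroup.zpowers a) (N := B) (by
          rw [Subgroup.zpowers_le]
          exact Subgroup.centralizer_le_normalizer _ (Subgroup.mem_centralizer_iff.2 fun b hb =>
            comm_el hE (hBE hb) haE))
        rw [sup_comm, hBa] at h
        have h2 : Nat.card (Subgroup.zpowers a) ≤ 2 := by
          rw [Nat.card_zpowers]
          exact Nat.le_of_dvd two_pos (orderOf_dvd_of_pow_eq_one (by rw [sq, ha2]))
        calc Nat.card E ≤ Nat.card E * Nat.card ↥(Subgroup.zpowers a ⊓ B) :=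
              Nat.le_mul_of_pos_right _ Nat.card_pos
          _ ≤ 2 * Nat.card B := by rw [h]; exact Nat.mul_le_mul_right _ h2
      have hBn : Nat.card B ≤ n := by
        have hlt : B < E := lt_of_le_of_ne hBE fun he => hka
          (Subgroup.mem_centralizer_iff.1 hkB a (he ▸ haE))
        have : Nat.card B < Nat.card E := lt_of_not_ge fun hge =>
          hlt.ne (Subgroup.eq_of_le_of_card_ge hlt.le hge)
        omega
      have hB := ih B hBn (el_mono hE hBE)
      calc Nat.card E ^ 2 ≤ (2 * Nat.card B) ^ 2 := Nat.pow_le_pow_left hcardE 2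
        _ = 4 * Nat.card B ^ 2 := by ring
        _ ≤ 4 * U.index := Nat.mul_le_mul_left _ hB
        _ ≤ _ := hidx
  intro E hEL h2 hc
  have hker : f.ker = (Subgroup.centralizer (W : Set G)).subgroupOf L := by
    ext l
    rw [MonoidHom.mem_ker, Subgroup.mem_subgroupOf, Subgroup.mem_centralizer_iff]
    constructor
    · intro h w hw
      have := hfval l ⟨w, hw⟩
      rw [h] at this
      exact (mul_inv_eq_iff_eq_mul.1 this.symm).symm
    · intro h
      refine Subtype.ext (MulEquiv.ext fun w => Subtype.ext ?_)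
      rw [hfval, ← h w w.2, mul_inv_cancel_right]
      rfl
  set Ē := (E.subgroupOf L).map f with hĒ
  have hel : IsElementaryAbelian 2 Ē := by
    refine ⟨⟨⟨?_⟩⟩, ?_⟩
    · rintro ⟨_, e, he, rfl⟩ ⟨_, e', he', rfl⟩
      refine Subtype.ext ?_
      show f e * f e' = f e' * f e
      rw [← mul_inv_eq_one, ← map_mul, ← map_mul, ← map_inv, ← map_mul, ← MonoidHom.mem_ker, hker,
        Subgroup.mem_subgroupOf]
      simpa [mul_assoc] using hc e he e' he'
    · rintro _ ⟨e, he, rfl⟩
      rw [← map_pow, ← MonoidHom.mem_ker, hker, Subgroup.mem_subgroupOf, sq]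
      exact h2 e he
  have h := key (Nat.card Ē) Ē le_rfl hel
  have h1 : Nat.card Ē = (Subgroup.centralizer (W : Set G)).relIndex E := by
    rw [hĒ, ← Subgroup.relIndex_ker, hker, ← Subgroup.relIndex_map_map_of_injective _ _
      (Subgroup.subtype_injective L), Subgroup.subgroupOf_map_subtype,
      Subgroup.map_subgroupOf_eq_of_le hEL, ← Subgroup.inf_relIndex_right, inf_assoc,
      inf_eq_right.2 hEL, Subgroup.inf_relIndex_right]
  have h3 : fixS (Ē.map φ.range.subtype) = (Subgroup.centralizer (E : Set G)).subgroupOf W := by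
    ext w
    rw [Subgroup.mem_subgroupOf, Subgroup.mem_centralizer_iff]
    constructor
    · intro hw e he
      have := hw _ ⟨f ⟨e, hEL he⟩, ⟨⟨e, hEL he⟩, he, rfl⟩, rfl⟩
      have h' := congrArg Subtype.val this
      exact mul_inv_eq_iff_eq_mul.1 h'
    · rintro hw _ ⟨_, ⟨e, he, rfl⟩, rfl⟩
      refine Subtype.ext ?_
      show (e : G) * w * (e : G)⁻¹ = w
      rw [hw e he, mul_inv_cancel_right]
  rw [h1, h3] at h
  exact h

end CfsgLib.LocalEven.S4W
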