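import Cfsg.Agent.Lib.LocalEven.S4Solvable.Bound

/-!
Index and chain lemmas, and the standing hypotheses for the normality of `W` in a solvable group
without a section `S₄`.
-/

set_option autoImplicit false

namespace CfsgLib.LocalEven.S4W

open Cfsg Equiv CfsgLib.Techniques

variable {G : Type*} [Group G] [Finite G]

omit [Finite G] in
theorem cj_of_mem {g : G} {H : Subgroup G} (h : g ∈ H) : cj g H = H :=
  mem_normalizer_iff_cj.1 (Subgroup.le_normalizer h)

omit [Finite G] in
theorem conj_pow_chain {x v i : G} (hi : x * i * x⁻¹ = i) (hv : x * v * x⁻¹ = i * v) (n : ℕ) :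
    x ^ n * v * (x ^ n)⁻¹ = i ^ n * v := by
  induction n with
  | zero => simp
  | succ n ih =>
    calc x ^ (n + 1) * v * (x ^ (n + 1))⁻¹ = x * (x ^ n * v * (x ^ n)⁻¹) * x⁻¹ := by
          rw [pow_succ']; group
      _ = (x * i * x⁻¹) ^ n * (x * v * x⁻¹) := by rw [ih, conj_pow]; group
      _ = i ^ (n + 1) * v := by rw [hi, hv, pow_succ]; group

omit [Finite G] in
/-- An element of odd order centralising the two factors of a `2`-chain centralises it. -/
theorem eq_one_of_chain {x v i : G} (hx : Odd (orderOf x)) (hi : x * i * x⁻¹ = i)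
    (hv : x * v * x⁻¹ = i * v) {P : Subgroup G} (hP : IsPGroup 2 P) (hiP : i ∈ P) : i = 1 := by
  have h := conj_pow_chain hi hv (orderOf x)
  rw [pow_orderOf_eq_one, one_mul, inv_one, mul_one] at h
  have h1 : i ^ orderOf x = 1 := right_eq_mul.1 h
  obtain ⟨j, hj⟩ := hP ⟨i, hiP⟩
  have hj' : i ^ 2 ^ j = 1 := congrArg Subtype.val hj
  have h2 := pow_gcd_eq_one.2 ⟨hj', h1⟩
  rwa [Nat.Coprime.gcd_eq_one (Nat.Coprime.pow_left j (Nat.coprime_two_left.2 hx)), pow_one] at h2

theorem relIndex_pos (H K : Subgroup G) : 0 < H.relIndex K :=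
  Nat.pos_of_ne_zero Subgroup.index_ne_zero_of_finite

omit [Finite G] in
theorem relIndex_sup_eq {F K : Subgroup G} (hK : K ≤ Subgroup.normalizer (F : Set G)) :
    F.relIndex (K ⊔ F) = F.relIndex K := by
  set N := Subgroup.normalizer (F : Set G)
  have hFN : F ≤ N := Subgroup.le_normalizer
  haveI : (F.subgroupOf N).Normal := Subgroup.normal_in_normalizer
  have h := Subgroup.relIndex_sup_right (H := K.subgroupOf N) (K := F.subgroupOf N)
  rw [← Subgroup.relIndex_map_map_of_injective _ _ (Subgroup.subtype_injective N),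
    ← Subgroup.relIndex_map_map_of_injective _ (K.subgroupOf N) (Subgroup.subtype_injective N),
    Subgroup.map_sup, Subgroup.map_subgroupOf_eq_of_le hFN,
    Subgroup.map_subgroupOf_eq_of_le hK] at h
  exact h

theorem relIndex_le_two {H K : Subgroup G} {a : G} (h : ∀ w ∈ K, w ∈ H ∨ w * a ∈ H) :
    H.relIndex K ≤ 2 := by
  classical
  by_cases ha : ∃ w ∈ K, w ∉ H
  · obtain ⟨w₀, hw₀, hw₀H⟩ := ha
    show (H.subgroupOf K).index ≤ 2
    refine le_of_le_of_eq ?_ (Nat.card_fin 2)
    rw [Subgroup.index_eq_card]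
    refine Nat.card_le_card_of_surjective (α := Fin 2)
      (fun i => if i = 0 then QuotientGroup.mk 1 else QuotientGroup.mk (⟨w₀, hw₀⟩⁻¹ : K)) ?_
    intro q
    obtain ⟨⟨w, hw⟩, rfl⟩ := QuotientGroup.mk_surjective q
    by_cases hwH : w ∈ H
    · exact ⟨0, by simpa [QuotientGroup.eq, Subgroup.mem_subgroupOf] using hwH⟩
    · refine ⟨1, ?_⟩
      have h1 : w⁻¹ * a ∈ H := (h _ (K.inv_mem hw)).resolve_left fun h' => hwH (H.inv_mem_iff.1 h')
      have h2 : w₀ * a ∈ H := (h _ hw₀).resolve_left hw₀H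
      simp only [if_neg (by decide : ¬ (1 : Fin 2) = 0), QuotientGroup.eq, Subgroup.mem_subgroupOf]
      simpa [mul_assoc] using H.mul_mem h2 (H.inv_mem h1)
  · push Not at ha
    rw [Subgroup.relIndex_eq_one.2 ha]
    omega

omit [Finite G] in
theorem card_eq_relIndex_mul {H K : Subgroup G} (h : H ≤ K) :
    Nat.card K = H.relIndex K * Nat.card H := by
  rw [← Subgroup.card_mul_index (H.subgroupOf K),
    Nat.card_congr (Subgroup.subgroupOfEquivOfLe h).toEquiv, mul_comm]
  rfl

theorem eq_of_relIndex_le {H H' K : Subgroup G} (hH : H ≤ H') (hK : H' ≤ K)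
    (h : H.relIndex K ≤ H'.relIndex K) : H = H' := by
  refine Subgroup.eq_of_le_of_card_ge hH ?_
  refine Nat.le_of_mul_le_mul_left (le_of_eq_of_le ?_ (Nat.mul_le_mul_right _ h)) (relIndex_pos H' K)
  rw [← card_eq_relIndex_mul hK, ← card_eq_relIndex_mul (hH.trans hK)]

/-- An elementary abelian subgroup of largest order. -/
structure MaxEl (U A : Subgroup G) : Prop where
  le : A ≤ U
  el : IsElementaryAbelian 2 A
  card_le : ∀ B ≤ U, IsElementaryAbelian 2 B → Nat.card B ≤ Nat.card A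

/-- The subgroup generated by the elementary abelian subgroups of largest order. -/
def Jel (U : Subgroup G) : Subgroup G := sSup {A | MaxEl U A}

omit [Finite G] in
theorem Jel_le (U : Subgroup G) : Jel U ≤ U := sSup_le fun _ hA => hA.le

omit [Finite G] in
theorem MaxEl.le_Jel {U A : Subgroup G} (h : MaxEl U A) : A ≤ Jel U := le_sSup h

omit [Finite G] in
theorem MaxEl.map {U A : Subgroup G} (h : MaxEl U A) {g : G} (hg : cj g A ≤ U) :
    MaxEl U (cj g A) :=
  ⟨hg, el_map _ h.el, fun B hB hel => (card_cj g A).symm ▸ h.card_le B hB hel⟩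

/-- The hypotheses on `X`, its Sylow subgroup `U` and the operator group `L` of `W`. -/
structure Ctx (U X L W Q : Subgroup G) : Prop where
  hU : IsPGroup 2 U
  hUX : U ≤ X
  free : ¬ Involves (Perm (Fin 4)) X
  el : IsElementaryAbelian 2 W
  hWU : W ≤ U
  hUW : U ≤ Subgroup.normalizer (W : Set G)
  hWA : ∀ A, MaxEl U A → W ≤ A
  hUL : U ≤ L
  bdd : Bdd L W
  hQU : Q ≤ U
  hXQ : X ≤ Subgroup.normalizer (Q : Set G)
  hCQ : ∀ y ∈ X, y ∈ Subgroup.centralizer (Q : Set G) → y ∈ Q

omit [Finite G] in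
/-- The bound for an elementary abelian group of operators. -/
theorem Bdd.apply {L W : Subgroup G} (h : Bdd L W) {E : Subgroup G} (hE : E ≤ L)
    (hel : IsElementaryAbelian 2 E) :
    (Subgroup.centralizer (W : Set G)).relIndex E ^ 2 ≤
      (Subgroup.centralizer (E : Set G)).relIndex W :=
  h E hE (fun e he => by rw [sq_one hel he]; exact one_mem _) fun e he f hf => by
    rw [comm_el hel he hf, mul_inv_cancel_right, mul_inv_cancel]; exact one_mem _

/-- The data attached to a hyperplane `A₁` of `A` centralising an inverted element modulo `Q`. -/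
structure Pair (X Q A A₁ : Subgroup G) (a x : G) : Prop where
  hA₁ : A₁ ≤ A
  ha : a ∈ A
  cover : ∀ w ∈ A, w ∈ A₁ ∨ w * a ∈ A₁
  hx : x ∈ X
  odd : Odd (orderOf x)
  inv : a * x * a⁻¹ = x⁻¹
  comm : ∀ b ∈ A₁, x * b * x⁻¹ * b⁻¹ ∈ Q

omit [Finite G] in
theorem Pair.mem_normalizer_sup [Finite G] {X Q A A₁ : Subgroup G} {a x : G}
    (h : Pair X Q A A₁ a x) (hQ : X ≤ Subgroup.normalizer (Q : Set G)) :
    x ∈ Subgroup.normalizer ((Q ⊔ A₁ : Subgroup G) : Set G) := by
  rw [mem_normalizer_iff_cj]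
  refine Subgroup.eq_of_le_of_card_ge ?_ (le_of_eq (card_cj _ _).symm)
  rw [cj, Subgroup.map_sup, sup_le_iff]
  refine ⟨le_of_eq_of_le (mem_normalizer_iff_cj.1 (hQ h.hx)) le_sup_left, ?_⟩
  rintro _ ⟨b, hb, rfl⟩
  simpa using (Q ⊔ A₁).mul_mem (Subgroup.mem_sup_left (h.comm b hb)) (Subgroup.mem_sup_right hb)

omit [Finite G] in
theorem Pair.a_mem_normalizer_sup [Finite G] {X Q A A₁ : Subgroup G} {a x : G}
    (h : Pair X Q A A₁ a x) (hel : IsElementaryAbelian 2 A)
    (hQ : X ≤ Subgroup.normalizer (Q : Set G)) (hAX : A ≤ X) :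
    a ∈ Subgroup.normalizer ((Q ⊔ A₁ : Subgroup G) : Set G) := by
  rw [mem_normalizer_iff_cj, cj, Subgroup.map_sup]
  congr 1
  · exact mem_normalizer_iff_cj.1 (hQ (hAX h.ha))
  · exact mem_normalizer_iff_cj.1 (Subgroup.centralizer_le_normalizer _
      (Subgroup.mem_centralizer_iff.2 fun b hb => comm_el hel (h.hA₁ hb) h.ha))

end CfsgLib.LocalEven.S4W
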