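import Cfsg.Agent.Lib.LocalEven.S4Solvable.Helpers

/-!
`W` lies in `O₂(X)`: an element of `W` inverting an element of odd order would make the operator
group of a conjugate too large.
-/

set_option autoImplicit false

namespace CfsgLib.LocalEven.S4W

open Cfsg Equiv CfsgLib.Techniques

variable {G : Type*} [Group G] [Finite G] {U X L W Q : Subgroup G}

theorem Ctx.no_pair_in_W (c : Ctx U X L W Q) {W₁ : Subgroup G} {a x : G}
    (p : Pair X Q W W₁ a x) (hxQ : x ∉ Q) : False := by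
  set Q₁ := Q ⊔ W₁ with hQ₁
  have hWX : W ≤ X := c.hWU.trans c.hUX
  have hQ₁U : Q₁ ≤ U := sup_le c.hQU (p.hA₁.trans c.hWU)
  have hxQ₁ := p.mem_normalizer_sup c.hXQ
  have haQ₁ := p.a_mem_normalizer_sup c.el c.hXQ hWX
  rw [← hQ₁] at hxQ₁ haQ₁
  have ha2 : a * a = 1 := sq_one c.el p.ha
  set D := W ⊓ Q₁ with hD
  set W' := cj x W with hW'
  set D' := cj x D with hD'
  have hD'eq : D' = W' ⊓ Q₁ := by
    rw [hD', hD, cj_inf, mem_normalizer_iff_cj.1 hxQ₁]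
  set t := x * a with ht
  have htt : t * t = 1 := by
    calc t * t = x * (a * x * a⁻¹) * (a * a) := by rw [ht]; group
      _ = 1 := by rw [p.inv, ha2]; group
  have htQ₁ : cj t Q₁ = Q₁ := mem_normalizer_iff_cj.1 (Subgroup.mul_mem _ hxQ₁ haQ₁)
  have htW : cj t W = W' := by rw [ht, cj_mul, cj_of_mem p.ha]
  have htD : cj t D = D' := by rw [hD, cj_inf, htW, htQ₁, hD'eq]
  have htD' : cj t D' = D := by rw [← htD, ← cj_mul, htt, cj_one]
  have htW' : cj t W' = W := by rw [← htW, ← cj_mul, htt, cj_one]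
  have hQ₁W : Q₁ ≤ Subgroup.normalizer (W : Set G) := hQ₁U.trans c.hUW
  have hQ₁W' : Q₁ ≤ Subgroup.normalizer (W' : Set G) := fun q hq => by
    rw [mem_normalizer_iff_cj, hW', ← cj_mul,
      show q * x = x * (x⁻¹ * q * x) by group, cj_mul,
      mem_normalizer_iff_cj.1 (hQ₁W (by simpa using conj_mem (Subgroup.inv_mem _ hxQ₁) hq))]
  have hQ₁D : Q₁ ≤ Subgroup.normalizer (D : Set G) := fun q hq => by
    rw [mem_normalizer_iff_cj, hD, cj_inf, mem_normalizer_iff_cj.1 (hQ₁W hq), cj_of_mem hq]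
  have hQ₁D' : Q₁ ≤ Subgroup.normalizer (D' : Set G) := fun q hq => by
    rw [mem_normalizer_iff_cj, hD'eq, cj_inf, mem_normalizer_iff_cj.1 (hQ₁W' hq), cj_of_mem hq]
  have hDel : IsElementaryAbelian 2 D := el_mono c.el inf_le_left
  have hD'el : IsElementaryAbelian 2 D' := el_map _ hDel
  have hDQ₁ : D ≤ Q₁ := inf_le_right
  have hD'Q₁ : D' ≤ Q₁ := hD'eq ▸ inf_le_right
  set N := D ⊔ D' with hN
  set I := D ⊓ D' with hI
  have hNQ₁ : N ≤ Q₁ := sup_le hDQ₁ hD'Q₁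
  have hNI : N ≤ Subgroup.normalizer (I : Set G) := fun n hn => by
    rw [mem_normalizer_iff_cj, hI, cj_inf, mem_normalizer_iff_cj.1 (hQ₁D (hNQ₁ hn)),
      mem_normalizer_iff_cj.1 (hQ₁D' (hNQ₁ hn))]
  have hmemN : ∀ n ∈ N, ∃ d ∈ D, ∃ d' ∈ D', d * d' = n := by
    intro n hn
    rw [hN, sup_comm] at hn
    obtain ⟨d', hd', d, hd, e⟩ := (Coprime.mem_sup_iff_of_le_normalizer (hD'Q₁.trans hQ₁D)).1 hn
    exact ⟨d' * d * d'⁻¹, conj_mem (hQ₁D (hD'Q₁ hd')) hd, d', hd', by rw [← e]; group⟩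
  have hcommI : ∀ d ∈ D, ∀ d' ∈ D', d * d' * d⁻¹ * d'⁻¹ ∈ I := fun d hd d' hd' =>
    ⟨by
      rw [show d * d' * d⁻¹ * d'⁻¹ = d * (d' * d⁻¹ * d'⁻¹) by group]
      exact D.mul_mem hd (conj_mem (hQ₁D (hD'Q₁ hd')) (D.inv_mem hd)),
    D'.mul_mem (conj_mem (hQ₁D' (hDQ₁ hd)) hd') (D'.inv_mem hd')⟩
  have hsq : ∀ v ∈ N, v * v ∈ I := by
    intro v hv
    obtain ⟨d, hd, d', hd', rfl⟩ := hmemN v hv
    have := hcommI d hd d' hd'
    rwa [inv_eq_of_mul_eq_one_right (sq_one hDel hd),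
      inv_eq_of_mul_eq_one_right (sq_one hD'el hd'), mul_assoc (d * d')] at this
  -- `a` and `t a t⁻¹` centralise `I` and `Q₁ / N`
  have haI : ∀ i ∈ I, a * i * a⁻¹ = i := fun i hi => by
    rw [comm_el c.el p.ha hi.1.1, mul_inv_cancel_right]
  have haD : ∀ q ∈ Q₁, a * q * a⁻¹ * q⁻¹ ∈ D := fun q hq =>
    ⟨by
      rw [show a * q * a⁻¹ * q⁻¹ = a * (q * a⁻¹ * q⁻¹) by group]
      exact W.mul_mem p.ha (conj_mem (hQ₁W hq) (W.inv_mem p.ha)),
    Q₁.mul_mem (conj_mem haQ₁ hq) (Q₁.inv_mem hq)⟩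
  set a' := t * a * t⁻¹ with ha'
  have ha'I : ∀ i ∈ I, a' * i * a'⁻¹ = i := by
    intro i hi
    have h1 : t⁻¹ * i * t ∈ I := by
      rw [inv_eq_of_mul_eq_one_right htt]
      have e : t * i * t = t * i * t⁻¹ := by rw [inv_eq_of_mul_eq_one_right htt]
      rw [e]
      exact ⟨htD' ▸ conj_mem_cj.2 hi.2, htD ▸ conj_mem_cj.2 hi.1⟩
    calc a' * i * a'⁻¹ = t * (a * (t⁻¹ * i * t) * a⁻¹) * t⁻¹ := by rw [ha']; group
      _ = i := by rw [haI _ h1]; group
  have htQ₁' : t ∈ Subgroup.normalizer (Q₁ : Set G) := mem_normalizer_iff_cj.2 htQ₁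
  have ha'D : ∀ q ∈ Q₁, a' * q * a'⁻¹ * q⁻¹ ∈ D' := fun q hq => by
    have h := haD _ (by simpa using conj_mem (Subgroup.inv_mem _ htQ₁') hq : t⁻¹ * q * t ∈ Q₁)
    have := conj_mem_cj (g := t) |>.2 h
    rw [htD] at this
    convert this using 1
    rw [ha']; group
  have haN : a ∈ Subgroup.normalizer (N : Set G) := mem_normalizer_of_conj_mem fun n hn => by
    simpa using N.mul_mem (Subgroup.mem_sup_left (haD n (hNQ₁ hn))) hn
  have ha'N : a' ∈ Subgroup.normalizer (N : Set G) := mem_normalizer_of_conj_mem fun n hn => by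
    simpa using N.mul_mem (Subgroup.mem_sup_right (ha'D n (hNQ₁ hn))) hn
  have hxx : a * a' = x⁻¹ * x⁻¹ := by
    calc a * a' = (a * x * a⁻¹) * (a * a) * x⁻¹ := by rw [ha', ht]; group
      _ = _ := by rw [p.inv, ha2, mul_one]
  let S : Subgroup G :=
    { carrier := {g | g ∈ Subgroup.normalizer (N : Set G) ∧ (∀ q ∈ Q₁, g * q * g⁻¹ * q⁻¹ ∈ N) ∧
        ∀ i ∈ I, g * i * g⁻¹ = i}
      one_mem' := ⟨one_mem _, fun q _ => by simp, fun i _ => by simp⟩
      mul_mem' := fun {g h} hg hh => ⟨mul_mem hg.1 hh.1, fun q hq => by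
          rw [show g * h * q * (g * h)⁻¹ * q⁻¹
            = g * (h * q * h⁻¹ * q⁻¹) * g⁻¹ * (g * q * g⁻¹ * q⁻¹) by group]
          exact N.mul_mem (conj_mem hg.1 (hh.2.1 q hq)) (hg.2.1 q hq), fun i hi => by
          rw [show g * h * i * (g * h)⁻¹ = g * (h * i * h⁻¹) * g⁻¹ by group, hh.2.2 i hi, hg.2.2 i hi]⟩
      inv_mem' := fun {g} hg => ⟨inv_mem hg.1, fun q hq => by
          rw [show g⁻¹ * q * g⁻¹⁻¹ * q⁻¹ = g⁻¹ * (g * q * g⁻¹ * q⁻¹)⁻¹ * g⁻¹⁻¹ by group]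
          exact conj_mem (inv_mem hg.1) (N.inv_mem (hg.2.1 q hq)), fun i hi => by
          conv_lhs => rw [← hg.2.2 i hi]
          group⟩ }
  have hxS : x ∈ S := by
    refine mem_of_sq_of_pow (H := S) p.odd ?_ (by rw [pow_orderOf_eq_one]; exact one_mem _)
    rw [← inv_inv x, ← mul_inv_rev, ← hxx]
    exact S.inv_mem (S.mul_mem ⟨haN, fun q hq => Subgroup.mem_sup_left (haD q hq), haI⟩
      ⟨ha'N, fun q hq => Subgroup.mem_sup_right (ha'D q hq), ha'I⟩)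
  obtain ⟨hxN, hxQN, hxI⟩ := hxS
  have hne : ∃ v ∈ N, x * v * x⁻¹ * v⁻¹ ∉ I := by
    by_contra h
    push Not at h
    refine hxQ (c.hCQ x p.hx (Subgroup.mem_centralizer_iff.2 fun q hq => ?_))
    have hq₁ : q ∈ Q₁ := Subgroup.mem_sup_left hq
    set n := x * q * x⁻¹ * q⁻¹ with hn
    have hnN : n ∈ N := hxQN q hq₁
    have hi := h n hnN
    have hi1 := eq_one_of_chain (v := n) p.odd (hxI _ hi) (by group) c.hU
      (hQ₁U (hDQ₁ hi.1))
    have hn1 := eq_one_of_chain (v := q) p.odd (mul_inv_eq_one.1 hi1) (by rw [hn]; group) c.hU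
      (hQ₁U (hNQ₁ hnN))
    rw [hn, mul_inv_eq_one, mul_inv_eq_iff_eq_mul] at hn1
    exact hn1.symm
  let F : Subgroup G :=
    { carrier := {v | v ∈ N ∧ a * v * a⁻¹ * v⁻¹ ∈ I}
      one_mem' := ⟨one_mem _, by simp⟩
      mul_mem' := fun {u v} hu hv => ⟨mul_mem hu.1 hv.1, by
        rw [show a * (u * v) * a⁻¹ * (u * v)⁻¹
          = (a * u * a⁻¹ * u⁻¹) * (u * (a * v * a⁻¹ * v⁻¹) * u⁻¹) by group]
        exact I.mul_mem hu.2 (conj_mem (hNI hu.1) hv.2)⟩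
      inv_mem' := fun {u} hu => ⟨inv_mem hu.1, by
        rw [show a * u⁻¹ * a⁻¹ * u⁻¹⁻¹ = u⁻¹ * (a * u * a⁻¹ * u⁻¹)⁻¹ * u⁻¹⁻¹ by group]
        exact conj_mem (inv_mem (hNI hu.1)) (I.inv_mem hu.2)⟩ }
  have h4 : 4 ≤ F.relIndex N := four_le_mod c.free (hNQ₁.trans (hQ₁U.trans c.hUX))
    (inf_le_left.trans le_sup_left) hNI hsq (hWX p.ha) p.hx haN hxN
    (mem_normalizer_of_conj_mem fun i hi => by rwa [haI i hi])
    (mem_normalizer_of_conj_mem fun i hi => by rwa [hxI i hi]) ha2 p.inv p.odd hne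
    (fun v hv h => ⟨hv, h⟩) (fun v _ h => h.2)
  -- only `D'` matters
  have hDF : D ≤ F := fun d hd => ⟨Subgroup.mem_sup_left hd, by
    rw [comm_el c.el p.ha hd.1, mul_inv_cancel_right, mul_inv_cancel]; exact one_mem _⟩
  have hNF : N ≤ Subgroup.normalizer (F : Set G) := fun n hn =>
    mem_normalizer_of_conj_mem fun v hv => by
      have hcomm : n * v * n⁻¹ * v⁻¹ ∈ I := by
        have e : n * v * n⁻¹ * v⁻¹ = (n * v) * (n * v) * (v⁻¹ * (n⁻¹ * n⁻¹) * v⁻¹⁻¹) * (v⁻¹ * v⁻¹) := by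
          group
        rw [e]
        exact I.mul_mem (I.mul_mem (hsq _ (N.mul_mem hn hv.1))
          (conj_mem (hNI (N.inv_mem hv.1)) (hsq _ (N.inv_mem hn)))) (hsq _ (N.inv_mem hv.1))
      have hcF : n * v * n⁻¹ * v⁻¹ ∈ F := ⟨Subgroup.mem_sup_left hcomm.1, by
        rw [haI _ hcomm, mul_inv_cancel]; exact one_mem _⟩
      simpa using F.mul_mem hcF hv
  have hNeq : D' ⊔ F = N := le_antisymm (sup_le le_sup_right fun v hv => hv.1)
    (sup_le (hDF.trans le_sup_right) le_sup_left)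
  rw [← hNeq, relIndex_sup_eq (le_sup_right.trans hNF)] at h4
  set r := (Subgroup.centralizer (W : Set G)).relIndex D' with hr
  have hr4 : 4 ≤ r := by
    refine h4.trans ?_
    rw [hr, ← Subgroup.inf_relIndex_right (Subgroup.centralizer _)]
    refine relIndex_cj_le (H := Subgroup.centralizer (W : Set G) ⊓ D') (K := F)
      (fun v hv => ⟨Subgroup.mem_sup_right hv.2, ?_⟩) _
    rw [show a * v = v * a from Subgroup.mem_centralizer_iff.1 hv.1 a p.ha, mul_inv_cancel_right,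
      mul_inv_cancel]
    exact one_mem _
  have hb := c.bdd.apply (hD'Q₁.trans (hQ₁U.trans c.hUL)) hD'el
  rw [← hr] at hb
  have h1 : (Subgroup.centralizer (D' : Set G)).relIndex W ≤
      (Subgroup.centralizer (D' : Set G)).relIndex D * D.relIndex W := by
    rw [← Subgroup.inf_relIndex_right (Subgroup.centralizer (D' : Set G)) D,
      Subgroup.relIndex_mul_relIndex _ _ _ inf_le_right inf_le_left]
    exact relIndex_cj_le inf_le_left _
  have h2 : D.relIndex W ≤ 2 := relIndex_le_two fun w hw => (p.cover w hw).imp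
    (fun h => ⟨hw, Subgroup.mem_sup_right h⟩) fun h => ⟨W.mul_mem hw p.ha, Subgroup.mem_sup_right h⟩
  have h3 : (Subgroup.centralizer (D' : Set G)).relIndex D ≤ r := by
    rw [hr, ← relIndex_cj t (Subgroup.centralizer (W : Set G)) D', ← centralizer_cj, htW, htD']
    exact relIndex_cj_le (Subgroup.centralizer_le (hD'eq ▸ inf_le_left)) _
  have h5 : r ^ 2 ≤ r * 2 := hb.trans (h1.trans (Nat.mul_le_mul h3 h2))
  nlinarith

end CfsgLib.LocalEven.S4W
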