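import Cfsg.Agent.Lib.LocalEven.S4Solvable.Helpers

/-!
An element inverted by a member of `Jel U` modulo a hyperplane normalises `W`.
-/

set_option autoImplicit false

namespace CfsgLib.LocalEven.S4W

open Cfsg Equiv CfsgLib.Techniques

variable {G : Type*} [Group G] [Finite G] {U X L W Q : Subgroup G}

omit [Finite G] in
theorem centralizer_iSup {ι : Sort*} (f : ι → Subgroup G) :
    Subgroup.centralizer ((⨆ i, f i : Subgroup G) : Set G) =
      ⨅ i, Subgroup.centralizer (f i : Set G) := by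
  refine le_antisymm (le_iInf fun i => Subgroup.centralizer_le (le_iSup f i)) ?_
  rw [← Subgroup.le_centralizer_iff]
  exact iSup_le fun i => Subgroup.le_centralizer_iff.2 (iInf_le _ i)

omit [Finite G] in
theorem el_iSup {ι : Sort*} {f : ι → Subgroup G} (hel : ∀ i, IsElementaryAbelian 2 (f i))
    (hc : ∀ i j, f i ≤ Subgroup.centralizer (f j : Set G)) :
    IsElementaryAbelian 2 (⨆ i, f i) := by
  have hle : (⨆ i, f i) ≤ Subgroup.centralizer ((⨆ i, f i : Subgroup G) : Set G) := by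
    rw [centralizer_iSup]
    exact le_iInf fun j => iSup_le fun i => hc i j
  have hcm : ∀ {u v : G}, u ∈ (⨆ i, f i) → v ∈ (⨆ i, f i) → u * v = v * u := fun hu hv =>
    Subgroup.mem_centralizer_iff.1 (hle hv) _ hu
  refine ⟨⟨⟨fun u v => Subtype.ext (hcm u.2 v.2)⟩⟩, fun v hv => ?_⟩
  suffices h : v ∈ (⨆ i, f i) ∧ v ^ 2 = 1 from h.2
  refine Subgroup.iSup_induction f (C := fun v => v ∈ (⨆ i, f i) ∧ v ^ 2 = 1) hv ?_ ?_ ?_
  · exact fun i v hv => ⟨le_iSup f i hv, (hel i).2 v hv⟩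
  · exact ⟨one_mem _, one_pow 2⟩
  · rintro u v ⟨hu, hu2⟩ ⟨hv, hv2⟩
    exact ⟨mul_mem hu hv, by rw [(show Commute u v from hcm hu hv).mul_pow, hu2, hv2, one_mul]⟩

omit [Finite G] in
theorem mem_centralizer_singleton' {g v : G} :
    v ∈ Subgroup.centralizer ({g} : Set G) ↔ g * v * g⁻¹ = v := by
  rw [Subgroup.mem_centralizer_singleton_iff, mul_inv_eq_iff_eq_mul]
  exact eq_comm

set_option maxHeartbeats 1600000 in
/-- The main step for a member of `Jel U`. -/
theorem Ctx.mem_normalizer_of_pair (c : Ctx U X L W Q)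
    (hconj : ∀ g ∈ X, cj g W ≤ Q)
    (hcomm : ∀ g ∈ X, ∀ h ∈ X, cj g W ≤ Subgroup.centralizer (cj h W : Set G))
    {A A₁ : Subgroup G} {a x : G} (hA : MaxEl U A) (p : Pair X Q A A₁ a x) :
    x ∈ Subgroup.normalizer (W : Set G) := by
  haveI : Fact (Nat.Prime 2) := ⟨Nat.prime_two⟩
  by_contra hxW
  have hWA : W ≤ A := c.hWA A hA
  have hAX : A ≤ X := hA.le.trans c.hUX
  set Q₁ := Q ⊔ A₁ with hQ₁
  have hQ₁U : Q₁ ≤ U := sup_le c.hQU (p.hA₁.trans hA.le)
  have hxQ₁ := p.mem_normalizer_sup c.hXQ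
  have haQ₁ := p.a_mem_normalizer_sup hA.el c.hXQ hAX
  rw [← hQ₁] at hxQ₁ haQ₁
  have ha2 : a * a = 1 := sq_one hA.el p.ha
  have haW : cj a W = W := mem_normalizer_iff_cj.1 (Subgroup.centralizer_le_normalizer _
    (Subgroup.mem_centralizer_iff.2 fun w hw => comm_el hA.el (hWA hw) p.ha))
  set Z := Subgroup.zpowers x with hZ
  have hZX : Z ≤ X := Subgroup.zpowers_le.2 p.hx
  have hZQ₁ : Z ≤ Subgroup.normalizer (Q₁ : Set G) := Subgroup.zpowers_le.2 hxQ₁
  have hinvZ : ∀ y ∈ Z, a * y * a⁻¹ = y⁻¹ := by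
    intro y hy
    obtain ⟨k, rfl⟩ := Subgroup.mem_zpowers_iff.1 hy
    rw [← conj_zpow, p.inv, inv_zpow]
  set f : Z → Subgroup G := fun y => cj (y : G) W with hf
  set V := ⨆ y : Z, f y with hVdef
  have hVel : IsElementaryAbelian 2 V := el_iSup (fun y => el_map _ c.el)
    fun y z => hcomm y (hZX y.2) z (hZX z.2)
  have hVQ : V ≤ Q := iSup_le fun y => hconj y (hZX y.2)
  have hVU : V ≤ U := hVQ.trans c.hQU
  have hWV : W ≤ V := le_of_eq_of_le (cj_one W).symm (le_iSup f ⟨1, Z.one_mem⟩)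
  have hcjV : ∀ g, (∀ y : Z, ∃ z : Z, cj g (f y) = f z) → g ∈ Subgroup.normalizer (V : Set G) := by
    intro g hg
    rw [mem_normalizer_iff_cj]
    refine Subgroup.eq_of_le_of_card_ge ?_ (le_of_eq (card_cj g V).symm)
    show Subgroup.map _ V ≤ V
    rw [hVdef, Subgroup.map_iSup]
    refine iSup_le fun y => ?_
    obtain ⟨z, hz⟩ := hg y
    exact le_of_eq_of_le hz (le_iSup f z)
  have hxV : x ∈ Subgroup.normalizer (V : Set G) :=
    hcjV x fun y => ⟨⟨x * y, Z.mul_mem (Subgroup.mem_zpowers x) y.2⟩, (cj_mul _ _ _).symm⟩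
  have haV : a ∈ Subgroup.normalizer (V : Set G) := hcjV a fun y => ⟨⟨(y : G)⁻¹, Z.inv_mem y.2⟩, by
    show cj a (cj (y : G) W) = cj (y : G)⁻¹ W
    rw [← cj_mul, ← hinvZ y y.2]
    conv_rhs => rw [cj_mul, mem_normalizer_iff_cj.1 (Subgroup.inv_mem _ (mem_normalizer_iff_cj.2 haW))]⟩
  have hxne : x ∉ Subgroup.centralizer (V : Set G) := fun h => hxW
    (Subgroup.centralizer_le_normalizer _ (Subgroup.centralizer_le hWV h))
  have hVX : V ≤ X := hVU.trans c.hUX
  have hn := p.odd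
  have hpow : x ^ orderOf x = 1 := pow_orderOf_eq_one x
  have h4 : 4 ≤ (Subgroup.centralizer ({a} : Set G)).relIndex V :=
    four_le c.free hVel hVX (hAX p.ha) p.hx haV hxV (by rw [ha2]; exact one_mem _)
      (by rw [p.inv, inv_mul_cancel]; exact one_mem _) hn (by rw [hpow]; exact one_mem _) hxne
  -- the lower bound from the operator groups
  have hQ₁L : ∀ y : Z, Q₁ ≤ cj (y : G) L := fun y => by
    rw [← mem_normalizer_iff_cj.1 (hZQ₁ y.2)]
    exact cj_mono (hQ₁U.trans c.hUL)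
  classical
  have hgreedy : ∀ s : Finset Z, ∀ B ≤ A₁,
      (⨅ y ∈ s, Subgroup.centralizer (f y : Set G)).relIndex B ^ 2 ≤
        (V ⊓ Subgroup.centralizer (B : Set G)).relIndex
          (V ⊓ Subgroup.centralizer ((B ⊓ ⨅ y ∈ s, Subgroup.centralizer (f y : Set G) : Subgroup G) : Set G)) := by
    intro s
    induction s using Finset.induction_on with
    | empty =>
      intro B _
      simp [Subgroup.relIndex_top_left]
    | insert y s _ ih =>
      intro B hB
      rw [Finset.iInf_insert]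
      set Cy := Subgroup.centralizer (f y : Set G)
      set Cs := ⨅ z ∈ s, Subgroup.centralizer (f z : Set G)
      have hfirst : (Cy ⊓ Cs).relIndex B = Cy.relIndex (B ⊓ Cs) * Cs.relIndex B := by
        rw [← Subgroup.inf_relIndex_right Cy (B ⊓ Cs), ← Subgroup.inf_relIndex_right Cs B,
          inf_comm Cs B, Subgroup.relIndex_mul_relIndex _ _ _ inf_le_right inf_le_left,
          ← Subgroup.inf_relIndex_right (Cy ⊓ Cs) B]
        congr 1
        ac_rfl
      set B' := B ⊓ Cs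
      set B'' := B ⊓ (Cy ⊓ Cs)
      have hB'el : IsElementaryAbelian 2 B' :=
        el_mono hA.el ((inf_le_left.trans hB).trans p.hA₁)
      have hB'L : B' ≤ cj (y : G) L :=
        ((inf_le_left.trans hB).trans le_sup_right).trans (hQ₁L y)
      have hstep : Cy.relIndex B' ^ 2 ≤ (V ⊓ Subgroup.centralizer (B' : Set G)).relIndex
          (V ⊓ Subgroup.centralizer (B'' : Set G)) := by
        refine ((c.bdd.conj (y : G)).apply hB'L hB'el).trans ?_
        have hyV : f y ≤ V := le_iSup f y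
        have e : (Subgroup.centralizer (B' : Set G)).relIndex (f y) =
            (V ⊓ Subgroup.centralizer (B' : Set G)).relIndex (f y) := by
          rw [← Subgroup.inf_relIndex_right, ← Subgroup.inf_relIndex_right (V ⊓ _)]
          congr 1
          apply le_antisymm
          · exact fun v hv => ⟨⟨hyV hv.2, hv.1⟩, hv.2⟩
          · exact fun v hv => ⟨hv.1.2, hv.2⟩
        show (Subgroup.centralizer (B' : Set G)).relIndex (f y) ≤ _
        rw [e]
        refine Subgroup.relIndex_le_of_le_right (le_inf hyV ?_) Subgroup.index_ne_zero_of_finite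
        exact Subgroup.le_centralizer_iff.1 (inf_le_right.trans inf_le_left : B'' ≤ Cy)
      rw [hfirst, mul_pow, mul_comm]
      refine (Nat.mul_le_mul (ih B hB) hstep).trans (le_of_eq ?_)
      refine Subgroup.relIndex_mul_relIndex _ _ _ (inf_le_inf_left _ (Subgroup.centralizer_le ?_))
        (inf_le_inf_left _ (Subgroup.centralizer_le ?_))
      · exact fun b hb => hb.1
      · exact fun b hb => ⟨hb.1, hb.2.2⟩
  letI : Fintype Z := Fintype.ofFinite Z
  have hg := hgreedy Finset.univ A₁ le_rfl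
  have hinf : (⨅ y ∈ (Finset.univ : Finset Z), Subgroup.centralizer (f y : Set G)) =
      Subgroup.centralizer (V : Set G) := by
    rw [hVdef, centralizer_iSup]; simp
  rw [hinf] at hg
  have hVtop : V ⊓ Subgroup.centralizer ((A₁ ⊓ Subgroup.centralizer (V : Set G) : Subgroup G) : Set G)
      = V := inf_eq_left.2 (Subgroup.le_centralizer_iff.1 inf_le_right)
  rw [hVtop, Subgroup.inf_relIndex_left] at hg
  -- the upper bound from the maximality of `A`
  set C := A₁ ⊓ Subgroup.centralizer (V : Set G) with hC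
  have hAcard : Nat.card A ≤ 2 * Nat.card A₁ := by
    rw [card_eq_relIndex_mul p.hA₁]
    exact Nat.mul_le_mul_right _ (relIndex_le_two p.cover)
  have hA₁card : Nat.card A₁ = (Subgroup.centralizer (V : Set G)).relIndex A₁ * Nat.card C := by
    rw [← Subgroup.inf_relIndex_left, ← hC, ← card_eq_relIndex_mul inf_le_left]
  have hsupel : IsElementaryAbelian 2 (⨆ i : Bool, bif i then C else V) := el_iSup
    (fun i => by cases i <;> first | exact hVel | exact el_mono hA.el (inf_le_left.trans p.hA₁))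
    (fun i j => by
      cases i <;> cases j
      · exact le_centralizer_el hVel
      · exact Subgroup.le_centralizer_iff.1 inf_le_right
      · exact inf_le_right
      · exact le_centralizer_el (el_mono hA.el (inf_le_left.trans p.hA₁)))
  have hsupcard : Nat.card ↥(C ⊔ V) ≤ Nat.card A := by
    rw [sup_eq_iSup]
    exact hA.card_le _ (iSup_le fun i => by
      cases i <;> first | exact hVU | exact (inf_le_left.trans p.hA₁).trans hA.le) hsupel
  have hupper : (Subgroup.centralizer (A : Set G)).relIndex V ≤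
      2 * (Subgroup.centralizer (V : Set G)).relIndex A₁ := by
    have h1 : (Subgroup.centralizer (A : Set G)).relIndex V ≤ (C ⊓ V).relIndex V :=
      relIndex_cj_le (inf_le_left.trans ((inf_le_left.trans p.hA₁).trans (le_centralizer_el hA.el))) _
    refine h1.trans (Nat.le_of_mul_le_mul_right ?_ (Nat.mul_pos (Nat.card_pos (α := ↥(C ⊓ V)))
      (Nat.card_pos (α := C))))
    have h2 := Coprime.card_sup_mul_card_inf (H := C) (N := V) ((inf_le_right).trans
      (Subgroup.centralizer_le_normalizer _))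
    have h3 : (C ⊓ V).relIndex V * Nat.card ↥(C ⊓ V) = Nat.card V :=
      (card_eq_relIndex_mul inf_le_right).symm
    calc (C ⊓ V).relIndex V * (Nat.card ↥(C ⊓ V) * Nat.card C)
        = Nat.card C * Nat.card V := by rw [← mul_assoc, h3, mul_comm]
      _ = Nat.card ↥(C ⊔ V) * Nat.card ↥(C ⊓ V) := h2.symm
      _ ≤ 2 * Nat.card A₁ * Nat.card ↥(C ⊓ V) := Nat.mul_le_mul_right _ (hsupcard.trans hAcard)
      _ = _ := by rw [hA₁card]; ring
  set e := (Subgroup.centralizer (V : Set G)).relIndex A₁ with he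
  have hlow : (Subgroup.centralizer (A₁ : Set G)).relIndex V ≤
      (Subgroup.centralizer (A : Set G)).relIndex V :=
    relIndex_cj_le (Subgroup.centralizer_le p.hA₁) _
  have hlow' : (Subgroup.centralizer ({a} : Set G)).relIndex V ≤
      (Subgroup.centralizer (A : Set G)).relIndex V :=
    relIndex_cj_le (Subgroup.centralizer_le (Set.singleton_subset_iff.2 p.ha)) _
  have he2 : e = 2 := by nlinarith
  have hcA : (Subgroup.centralizer (A : Set G)).relIndex V = 4 := by rw [he2] at hupper; omega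
  have hcA₁ : (Subgroup.centralizer (A₁ : Set G)).relIndex V = 4 := by
    rw [he2] at hg; rw [hcA] at hlow; omega
  have hca : (Subgroup.centralizer ({a} : Set G)).relIndex V = 4 := by omega
  set H := V ⊓ Subgroup.centralizer (A : Set G) with hH
  have hHA₁ : H = V ⊓ Subgroup.centralizer (A₁ : Set G) :=
    eq_of_relIndex_le (inf_le_inf_left _ (Subgroup.centralizer_le p.hA₁)) inf_le_left
      (by rw [hH, Subgroup.inf_relIndex_left, Subgroup.inf_relIndex_left]; omega)
  have hHa : H = V ⊓ Subgroup.centralizer ({a} : Set G) :=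
    eq_of_relIndex_le (inf_le_inf_left _ (Subgroup.centralizer_le (Set.singleton_subset_iff.2 p.ha)))
      inf_le_left (by rw [hH, Subgroup.inf_relIndex_left, Subgroup.inf_relIndex_left]; omega)
  have hHV : H ≤ V := inf_le_left
  have hHidx : H.relIndex V = 4 := by rw [hH, Subgroup.inf_relIndex_left, hcA]
  have hWH : W ≤ H := le_inf hWV (hWA.trans (le_centralizer_el hA.el))
  have hafix : ∀ h ∈ H, a * h * a⁻¹ = h := fun h hh =>
    mem_centralizer_singleton'.1 (hHa ▸ hh).2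
  -- a member `u` of `A₁` with kernel `H`
  obtain ⟨u, huA₁, huV⟩ : ∃ u ∈ A₁, u ∉ Subgroup.centralizer (V : Set G) :=
    SetLike.not_le_iff_exists.1 fun h => by
      have := Subgroup.relIndex_eq_one.2 h
      rw [← he] at this
      omega
  have hA₁C : ∀ b ∈ A₁, b ∈ C ∨ b * u ∈ C := by
    intro b hb
    have hidx : (C.subgroupOf A₁).index = 2 := by
      show C.relIndex A₁ = 2
      rw [hC, Subgroup.inf_relIndex_left, ← he, he2]
    rcases em (b ∈ C) with h | h
    · exact Or.inl h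
    · exact Or.inr ((Subgroup.mul_mem_iff_of_index_two hidx (a := ⟨b, hb⟩) (b := ⟨u, huA₁⟩)).2
        ⟨fun h' => absurd h' h, fun h' => absurd h'.2 huV⟩)
  have huker : ∀ v ∈ V, u * v * u⁻¹ = v → v ∈ H := by
    intro v hv huv
    rw [hHA₁]
    refine ⟨hv, Subgroup.mem_centralizer_iff.2 fun b hb => ?_⟩
    have hu' : u * v = v * u := mul_inv_eq_iff_eq_mul.1 huv
    rcases hA₁C b hb with h | h
    · exact (Subgroup.mem_centralizer_iff.1 h.2 v hv).symm
    · have hbu : Commute (b * u) v := (Subgroup.mem_centralizer_iff.1 h.2 v hv).symm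
      have := hbu.mul_left (show Commute u v from hu').inv_left
      simpa [mul_assoc] using this.eq
  have huH : ∀ v ∈ H, u * v * u⁻¹ = v := fun v hv => by
    rw [hHA₁] at hv
    rw [Subgroup.mem_centralizer_iff.1 hv.2 u huA₁, mul_inv_cancel_right]
  -- the fixed points of `x`
  set C₀ := V ⊓ Subgroup.centralizer ({x} : Set G) with hC₀
  have hxC₀ : ∀ c ∈ C₀, x * c * x⁻¹ = c := fun c hc => mem_centralizer_singleton'.1 hc.2
  have hfixx : ∀ {g v : G}, g * g * v * (g * g)⁻¹ = v → g ^ orderOf x = 1 → g * v * g⁻¹ = v := by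
    intro g v h h1
    refine mem_centralizer_singleton'.1 (Subgroup.mem_centralizer_singleton_iff.2 ?_)
    have := mem_of_sq_of_pow (H := Subgroup.centralizer ({v} : Set G)) (x := g) hn
      (Subgroup.mem_centralizer_singleton_iff.2 (mul_inv_eq_iff_eq_mul.1 h))
      (by rw [h1]; exact one_mem _)
    exact (Subgroup.mem_centralizer_singleton_iff.1 this).symm
  have hxnC₀ : x ∈ Subgroup.normalizer (C₀ : Set G) := mem_normalizer_of_conj_mem fun c hc => by
    rw [hxC₀ c hc]; exact hc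
  have hanC₀ : a ∈ Subgroup.normalizer (C₀ : Set G) := mem_normalizer_of_conj_mem fun c hc =>
    ⟨conj_mem haV hc.1, mem_centralizer_singleton'.2 (by
      have h1 : x⁻¹ * c * x = c := by
        conv_lhs => rw [← hxC₀ c hc]
        group
      calc x * (a * c * a⁻¹) * x⁻¹ = a * ((a⁻¹ * x * a) * c * (a⁻¹ * x * a)⁻¹) * a⁻¹ := by group
        _ = a * (x⁻¹ * c * x) * a⁻¹ := by
          have hai : a⁻¹ = a := inv_eq_of_mul_eq_one_right ha2
          have e : a⁻¹ * x * a = x⁻¹ := by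
            conv_lhs => rw [hai]
            conv_rhs => rw [← p.inv, hai]
          rw [e, inv_inv]
        _ = _ := by rw [h1])⟩
  have hVC₀ : V ≤ Subgroup.normalizer (C₀ : Set G) := (le_centralizer_el hVel).trans
    ((Subgroup.centralizer_le inf_le_left).trans (Subgroup.centralizer_le_normalizer _))
  have hxmove : ∃ v ∈ V, x * v * x⁻¹ * v⁻¹ ∉ C₀ := by
    by_contra h
    push Not at h
    refine hxne (Subgroup.mem_centralizer_iff.2 fun v hv => ?_)
    have hi := h v hv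
    have h1 := eq_one_of_chain (v := v) hn (hxC₀ _ hi) (by group) c.hU (hVU hi.1)
    rw [mul_inv_eq_one, mul_inv_eq_iff_eq_mul] at h1
    exact h1.symm
  let F : Subgroup G :=
    { carrier := {v | v ∈ V ∧ a * v * a⁻¹ * v⁻¹ ∈ C₀}
      one_mem' := ⟨one_mem _, by simp⟩
      mul_mem' := fun {v w} hv hw => ⟨mul_mem hv.1 hw.1, by
        rw [show a * (v * w) * a⁻¹ * (v * w)⁻¹
          = (a * v * a⁻¹ * v⁻¹) * (v * (a * w * a⁻¹ * w⁻¹) * v⁻¹) by group]
        exact C₀.mul_mem hv.2 (conj_mem (hVC₀ hv.1) hw.2)⟩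
      inv_mem' := fun {v} hv => ⟨inv_mem hv.1, by
        rw [show a * v⁻¹ * a⁻¹ * v⁻¹⁻¹ = v⁻¹ * (a * v * a⁻¹ * v⁻¹)⁻¹ * v⁻¹⁻¹ by group]
        exact conj_mem (inv_mem (hVC₀ hv.1)) (C₀.inv_mem hv.2)⟩ }
  have hHF : H ≤ F := fun v hv => ⟨hHV hv, by
    rw [hafix v hv, mul_inv_cancel]; exact one_mem _⟩
  have hFV : F ≤ V := fun v hv => hv.1
  have hFH : H = F := eq_of_relIndex_le hHF hFV (by
    rw [hHidx]
    exact four_le_mod c.free hVX inf_le_left hVC₀
      (fun v hv => by rw [sq_one hVel hv]; exact one_mem _) (hAX p.ha) p.hx haV hxV hanC₀ hxnC₀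
      ha2 p.inv hn hxmove (fun v hv h => ⟨hv, h⟩) (fun v _ h => h.2))
  have hdiag : ∀ v ∈ V, a * v * a⁻¹ * v⁻¹ ∈ C₀ → v ∈ H := fun v hv h => hFH ▸ ⟨hv, h⟩
  have hC₀H : C₀ ≤ H := fun c hc => hdiag c hc.1
    (C₀.mul_mem (conj_mem hanC₀ hc) (C₀.inv_mem hc))
  set H' := cj x H with hH'
  have hH'V : H' ≤ V := le_of_le_of_eq (cj_mono hHV) (mem_normalizer_iff_cj.1 hxV)
  have hC₀H' : C₀ ≤ H' := fun c hc => mem_cj.2 (hC₀H (by
    convert hc using 1
    conv_lhs => rw [← hxC₀ c hc]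
    group))
  -- a common fixed point of `a` and `z a z⁻¹` is fixed by `z`
  have hpair : ∀ z, z ^ orderOf x = 1 → a * z * a⁻¹ = z⁻¹ → ∀ v ∈ H, z⁻¹ * v * z ∈ H →
      z * v * z⁻¹ = v := by
    intro z hz1 hzi v hv hv'
    have h1 := hafix _ hv'
    have h2 : z⁻¹ * v * z⁻¹⁻¹ = v := by
      refine hfixx ?_ (by rw [inv_pow, hz1, inv_one])
      calc z⁻¹ * z⁻¹ * v * (z⁻¹ * z⁻¹)⁻¹
          = (a * z * a⁻¹) * z⁻¹ * v * z * (a * z * a⁻¹)⁻¹ := by rw [hzi]; simp [mul_assoc]
        _ = a * (z * ((a⁻¹ * (z⁻¹ * v * z) * a)) * z⁻¹) * a⁻¹ := by group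
        _ = a * (z * (z⁻¹ * v * z) * z⁻¹) * a⁻¹ := by
          have : a⁻¹ * (z⁻¹ * v * z) * a = z⁻¹ * v * z := by
            conv_lhs => rw [← h1]
            group
          rw [this]
        _ = a * v * a⁻¹ := by group
        _ = v := hafix v hv
    conv_lhs => rw [← h2]
    group
  have hxinf : H ⊓ H' = C₀ := le_antisymm (fun v hv => ⟨hHV hv.1, mem_centralizer_singleton'.2
    (hpair x hpow p.inv v hv.1 (mem_cj.1 hv.2))⟩) (le_inf hC₀H hC₀H')
  -- the conjugates of `u`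
  set M := Subgroup.closure {g | ∃ y ∈ Z, g = y * u * y⁻¹} with hM
  have hMQ₁ : M ≤ Q₁ := by
    rw [hM, Subgroup.closure_le]
    rintro _ ⟨y, hy, rfl⟩
    exact conj_mem (hZQ₁ hy) (Subgroup.mem_sup_right huA₁)
  have hMU : M ≤ U := hMQ₁.trans hQ₁U
  have huM : u ∈ M := Subgroup.subset_closure ⟨1, Z.one_mem, by group⟩
  have hnM : ∀ g, (∀ y ∈ Z, ∃ z ∈ Z, g * (y * u * y⁻¹) * g⁻¹ = z * u * z⁻¹) →
      g ∈ Subgroup.normalizer (M : Set G) := by
    intro g hg
    rw [mem_normalizer_iff_cj]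
    refine Subgroup.eq_of_le_of_card_ge ?_ (le_of_eq (card_cj g M).symm)
    show Subgroup.map _ M ≤ M
    rw [hM, MonoidHom.map_closure, Subgroup.closure_le]
    rintro _ ⟨_, ⟨y, hy, rfl⟩, rfl⟩
    obtain ⟨z, hz, e⟩ := hg y hy
    exact Subgroup.subset_closure ⟨z, hz, e⟩
  have hxM : x ∈ Subgroup.normalizer (M : Set G) := hnM x fun y hy =>
    ⟨x * y, Z.mul_mem (Subgroup.mem_zpowers x) hy, by group⟩
  have haM : a ∈ Subgroup.normalizer (M : Set G) := hnM a fun y hy => ⟨y⁻¹, Z.inv_mem hy, by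
    have hau : a * u * a⁻¹ = u := by
      rw [comm_el hA.el p.ha (p.hA₁ huA₁), mul_inv_cancel_right]
    calc a * (y * u * y⁻¹) * a⁻¹ = (a * y * a⁻¹) * (a * u * a⁻¹) * (a * y * a⁻¹)⁻¹ := by group
      _ = _ := by rw [hinvZ y hy, hau]⟩
  have hMC₀ : M ≤ Subgroup.centralizer (C₀ : Set G) := by
    rw [hM, Subgroup.closure_le]
    rintro _ ⟨y, hy, rfl⟩
    refine Subgroup.mem_centralizer_iff.2 fun c hc => ?_
    have hyc : y * c = c * y := by
      have hle : Z ≤ Subgroup.centralizer ({c} : Set G) := Subgroup.zpowers_le.2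
        (Subgroup.mem_centralizer_singleton_iff.2 (mul_inv_eq_iff_eq_mul.1 (hxC₀ c hc)))
      exact Subgroup.mem_centralizer_singleton_iff.1 (hle hy)
    have huc : u * c = c * u := mul_inv_eq_iff_eq_mul.1 (huH c (hC₀H hc))
    exact ((show Commute y c from hyc).mul_left huc |>.mul_left (show Commute y c from hyc).inv_left).eq.symm
  have hMV : M ≤ Subgroup.normalizer (V : Set G) := hMQ₁.trans fun q hq => hcjV q fun y => ⟨y, by
    show cj q (cj (y : G) W) = cj (y : G) W
    rw [← cj_mul, show q * (y : G) = y * ((y : G)⁻¹ * q * y) by group, cj_mul,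
      mem_normalizer_iff_cj.1 ((hQ₁U.trans c.hUW)
        (by simpa using conj_mem (Subgroup.inv_mem _ (hZQ₁ y.2)) hq))]⟩
  have hVcm : ∀ {v w : G}, v ∈ V → w ∈ V → v * w * v⁻¹ = w := fun hv hw => by
    rw [comm_el hVel hv hw, mul_inv_cancel_right]
  let F₀ : Subgroup G :=
    { carrier := {v | v ∈ V ∧ ∀ m ∈ M, m * v * m⁻¹ * v⁻¹ ∈ C₀}
      one_mem' := ⟨one_mem _, fun m _ => by simp⟩
      mul_mem' := fun {v w} hv hw => ⟨mul_mem hv.1 hw.1, fun m hm => by
        rw [show m * (v * w) * m⁻¹ * (v * w)⁻¹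
          = (m * v * m⁻¹ * v⁻¹) * (v * (m * w * m⁻¹ * w⁻¹) * v⁻¹) by group, hVcm hv.1 (hw.2 m hm).1]
        exact C₀.mul_mem (hv.2 m hm) (hw.2 m hm)⟩
      inv_mem' := fun {v} hv => ⟨inv_mem hv.1, fun m hm => by
        rw [inv_eq_of_mul_eq_one_right (sq_one hVel hv.1)]
        exact hv.2 m hm⟩ }
  have hC₀F₀ : C₀ ≤ F₀ := fun c hc => ⟨hc.1, fun m hm => by
    rw [← Subgroup.mem_centralizer_iff.1 (hMC₀ hm) c hc, mul_inv_cancel_right, mul_inv_cancel]
    exact one_mem _⟩
  -- the fixed points of `M` on `V / C₀` exceed `C₀`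
  obtain ⟨v₀, hv₀, hv₀C⟩ : ∃ v ∈ F₀, v ∉ C₀ := by
    by_contra hno
    push Not at hno
    haveI : Group.IsNilpotent U := c.hU.isNilpotent
    obtain ⟨n, hnil⟩ := Subgroup.nilpotent_iff_lowerCentralSeries.1 ‹Group.IsNilpotent U›
    have key : ∀ k, k ≤ n →
        ∀ v ∈ V, v ∈ (Subgroup.lowerCentralSeries (⊤ : Subgroup U) (n - k)).map U.subtype → v ∈ C₀ := by
      intro k
      induction k with
      | zero =>
        intro _ v _ h
        rw [Nat.sub_zero, hnil, Subgroup.map_bot] at h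
        rw [Subgroup.mem_bot.1 h]
        exact one_mem _
      | succ k ih =>
        intro hk v hv hvk
        refine hno v ⟨hv, fun m hm => ih (by omega) _ (V.mul_mem (conj_mem (hMV hm) hv) (V.inv_mem hv)) ?_⟩
        obtain ⟨v', hv', rfl⟩ := hvk
        rw [show n - k = n - (k + 1) + 1 by omega]
        refine ⟨⟨m, hMU hm⟩ * v' * ⟨m, hMU hm⟩⁻¹ * v'⁻¹, ?_, by simp⟩
        have hmem := Subgroup.commutator_mem_commutator
          (H₁ := Subgroup.lowerCentralSeries (⊤ : Subgroup U) (n - (k + 1))) (H₂ := ⊤)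
          hv' (Subgroup.mem_top (⟨m, hMU hm⟩ : U))
        have := Subgroup.inv_mem _ hmem
        rw [Subgroup.lowerCentralSeries_succ]
        simpa [commutatorElement_def, mul_assoc] using this
    refine hxne (Subgroup.mem_centralizer_iff.2 fun v hv => ?_)
    have := key n le_rfl v hv (by
      rw [Nat.sub_self, Subgroup.lowerCentralSeries_zero]
      exact ⟨⟨v, hVU hv⟩, Subgroup.mem_top _, rfl⟩)
    exact (mul_inv_eq_iff_eq_mul.1 (hxC₀ v this)).symm
  have hxF₀ : x ∈ Subgroup.normalizer (F₀ : Set G) := mem_normalizer_of_conj_mem fun v hv =>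
    ⟨conj_mem hxV hv.1, fun m hm => by
      have h := conj_mem hxnC₀ (hv.2 _ (by simpa using conj_mem (Subgroup.inv_mem _ hxM) hm :
        x⁻¹ * m * x ∈ M))
      convert h using 1; group⟩
  have haF₀ : a ∈ Subgroup.normalizer (F₀ : Set G) := mem_normalizer_of_conj_mem fun v hv =>
    ⟨conj_mem haV hv.1, fun m hm => by
      have h := conj_mem hanC₀ (hv.2 _ (by simpa using conj_mem (Subgroup.inv_mem _ haM) hm :
        a⁻¹ * m * a ∈ M))
      convert h using 1; group⟩
  have hF₀move : ∃ v ∈ F₀, x * v * x⁻¹ * v⁻¹ ∉ C₀ := by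
    by_contra h
    push Not at h
    have hi := h v₀ hv₀
    have h1 := eq_one_of_chain (v := v₀) hn (hxC₀ _ hi) (by group) c.hU (hVU hi.1)
    exact hv₀C ⟨hv₀.1, mem_centralizer_singleton'.2 (mul_inv_eq_one.1 h1)⟩
  have hF₀V : F₀ ≤ V := fun v hv => hv.1
  have h4' : 4 ≤ H.relIndex F₀ := four_le_mod c.free (hF₀V.trans hVX) hC₀F₀ (hF₀V.trans hVC₀)
    (fun v hv => by rw [sq_one hVel (hF₀V hv)]; exact one_mem _) (hAX p.ha) p.hx haF₀ hxF₀ hanC₀
    hxnC₀ ha2 p.inv hn hF₀move (fun v hv h => hdiag v (hF₀V hv) h)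
    (fun v _ h => by rw [hafix v h, mul_inv_cancel]; exact one_mem _)
  -- `[a, F₀]` is a complement of `C₀` in `F₀ ∩ H`
  have hbig : 4 ≤ C₀.relIndex (H ⊓ F₀) := by
    let δ : F₀ →* G := MonoidHom.mk' (fun v => a * v * a⁻¹ * (v : G)⁻¹) fun v w => by
      show a * ((v : G) * w) * a⁻¹ * ((v : G) * w)⁻¹
        = a * v * a⁻¹ * (v : G)⁻¹ * (a * w * a⁻¹ * (w : G)⁻¹)
      rw [show a * ((v : G) * w) * a⁻¹ * ((v : G) * w)⁻¹
          = (a * v * a⁻¹ * (v : G)⁻¹) * ((v : G) * (a * w * a⁻¹ * (w : G)⁻¹) * (v : G)⁻¹) by group,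
        hVcm (hF₀V v.2) (V.mul_mem (conj_mem haV (hF₀V w.2)) (V.inv_mem (hF₀V w.2)))]
    have hker : δ.ker = H.subgroupOf F₀ := by
      ext v
      rw [MonoidHom.mem_ker, Subgroup.mem_subgroupOf]
      constructor
      · intro h
        have h' : a * (v : G) * a⁻¹ * (v : G)⁻¹ = 1 := h
        exact hdiag _ (hF₀V v.2) (h' ▸ one_mem _)
      · intro h
        show a * (v : G) * a⁻¹ * (v : G)⁻¹ = 1
        rw [hafix _ h, mul_inv_cancel]
    have hcard : Nat.card δ.range = H.relIndex F₀ := by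
      rw [← Subgroup.index_ker, hker]; rfl
    have hrle : δ.range ≤ H ⊓ F₀ := by
      rintro _ ⟨v, rfl⟩
      set d := a * (v : G) * a⁻¹ * (v : G)⁻¹ with hd
      have hdF : d ∈ F₀ := F₀.mul_mem (conj_mem haF₀ v.2) (F₀.inv_mem v.2)
      refine ⟨?_, hdF⟩
      rw [hHa]
      refine ⟨hF₀V hdF, mem_centralizer_singleton'.2 ?_⟩
      calc a * d * a⁻¹ = (a * a) * v * (a * a)⁻¹ * (a * (v : G) * a⁻¹)⁻¹ := by rw [hd]; group
        _ = d⁻¹ := by rw [ha2, hd]; group
        _ = d := inv_eq_of_mul_eq_one_right (sq_one hVel (hF₀V hdF))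
    have hdisj : C₀ ⊓ δ.range = ⊥ := by
      rw [eq_bot_iff]
      rintro _ ⟨hc, v, rfl⟩
      have hvH := hdiag _ (hF₀V v.2) hc
      rw [Subgroup.mem_bot]
      show a * (v : G) * a⁻¹ * (v : G)⁻¹ = 1
      rw [hafix _ hvH, mul_inv_cancel]
    calc 4 ≤ Nat.card δ.range := hcard ▸ h4'
      _ = C₀.relIndex δ.range := by
        rw [← Subgroup.inf_relIndex_right, hdisj, Subgroup.relIndex_bot_left]
      _ ≤ _ := Subgroup.relIndex_le_of_le_right hrle Subgroup.index_ne_zero_of_finite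
  have hprod := Subgroup.relIndex_inf_le (H := H) (K := H') (L := V)
  have hH'idx : H'.relIndex V = 4 := by
    rw [hH']
    conv_lhs => rw [← mem_normalizer_iff_cj.1 hxV]
    rw [relIndex_cj, hHidx]
  rw [hxinf, hHidx, hH'idx] at hprod
  have hmul₁ : C₀.relIndex H * H.relIndex V = C₀.relIndex V :=
    Subgroup.relIndex_mul_relIndex _ _ _ hC₀H hHV
  rw [hHidx] at hmul₁
  have hC₀HF₀ : C₀ ≤ H ⊓ F₀ := le_inf hC₀H hC₀F₀
  have hmul₂ : C₀.relIndex (H ⊓ F₀) * H.relIndex F₀ = C₀.relIndex F₀ := by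
    rw [← Subgroup.inf_relIndex_right H F₀]
    exact Subgroup.relIndex_mul_relIndex _ _ _ hC₀HF₀ inf_le_right
  have hmul₃ := Subgroup.relIndex_mul_relIndex C₀ F₀ V hC₀F₀ hF₀V
  have hFle : 16 ≤ C₀.relIndex F₀ := hmul₂ ▸ Nat.mul_le_mul hbig h4'
  have hF₀top : F₀ = V := by
    refine le_antisymm hF₀V (Subgroup.relIndex_eq_one.1 ?_)
    have := relIndex_pos F₀ V
    nlinarith
  have hidx16 : C₀.relIndex V = 16 := by
    rw [← hF₀top] at hprod ⊢; omega
  have hC₀H4 : C₀.relIndex H = 4 := by omega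
  have hC₀H'4 : C₀.relIndex H' = 4 := by
    have h := Subgroup.relIndex_mul_relIndex C₀ H' V hC₀H' hH'V
    rw [hH'idx, hidx16] at h; omega
  have hspan : H ⊔ H' = V := by
    refine Subgroup.eq_of_le_of_card_ge (sup_le hHV hH'V) ?_
    have h := Coprime.card_sup_mul_card_inf (H := H) (N := H') (hHV.trans
      ((le_centralizer_el hVel).trans ((Subgroup.centralizer_le hH'V).trans
        (Subgroup.centralizer_le_normalizer _))))
    rw [hxinf, card_eq_relIndex_mul hC₀H, card_eq_relIndex_mul hC₀H', hC₀H4, hC₀H'4] at h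
    rw [card_eq_relIndex_mul (hC₀H.trans hHV), hidx16]
    exact le_of_eq (Nat.eq_of_mul_eq_mul_right (Nat.card_pos (α := C₀))
      (by rw [h]; ring))
  -- `M` acts on `W` through an elementary abelian group
  have hMact : ∀ m ∈ M, ∀ v ∈ V, m * v * m⁻¹ * v⁻¹ ∈ C₀ := fun m hm v hv => (hF₀top.ge hv).2 m hm
  have hMC : ∀ m ∈ M, ∀ i ∈ C₀, m * i * m⁻¹ = i := fun m hm i hi => by
    rw [← Subgroup.mem_centralizer_iff.1 (hMC₀ hm) i hi, mul_inv_cancel_right]
  have hsqM : ∀ m ∈ M, m * m ∈ Subgroup.centralizer (V : Set G) := fun m hm => by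
    refine Subgroup.mem_centralizer_iff.2 fun v hv => ?_
    have hi := hMact m hm v hv
    have h := conj_pow_chain (hMC m hm _ hi) (v := v) (by group) 2
    rw [sq_one hVel hv |> fun _ => hVel.2 _ hi.1, one_mul, sq] at h
    exact (mul_inv_eq_iff_eq_mul.1 h).symm
  have hcmM : ∀ m ∈ M, ∀ k ∈ M, m * k * m⁻¹ * k⁻¹ ∈ Subgroup.centralizer (V : Set G) := by
    intro m hm k hk
    have hexp : ∀ g ∈ M, ∀ h ∈ M, ∀ w ∈ V, g * (h * w * h⁻¹) * g⁻¹
        = (h * w * h⁻¹ * w⁻¹) * ((g * w * g⁻¹ * w⁻¹) * w) := fun g hg h hh w hw => by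
      rw [show g * (h * w * h⁻¹) * g⁻¹
        = (g * (h * w * h⁻¹ * w⁻¹) * g⁻¹) * (g * w * g⁻¹ * w⁻¹ * w) by group,
        hMC g hg _ (hMact h hh w hw)]
    refine Subgroup.mem_centralizer_iff.2 fun v hv => ?_
    set v' := (k * m)⁻¹ * v * (k * m) with hv'def
    have hv' : v' ∈ V := by
      simpa [hv'def] using conj_mem (inv_mem (mul_mem (hMV hk) (hMV hm))) hv
    have e : m * (k * v' * k⁻¹) * m⁻¹ = k * (m * v' * m⁻¹) * k⁻¹ := by
      rw [hexp m hm k hk v' hv', hexp k hk m hm v' hv']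
      exact (mul_assoc _ _ _).symm.trans ((congrArg (· * v')
        (comm_el hVel (hMact k hk v' hv').1 (hMact m hm v' hv').1)).trans (mul_assoc _ _ _))
    have e' : m * k * m⁻¹ * k⁻¹ * v * (m * k * m⁻¹ * k⁻¹)⁻¹ = v := by
      calc _ = m * (k * v' * k⁻¹) * m⁻¹ := by rw [hv'def]; group
        _ = k * (m * v' * m⁻¹) * k⁻¹ := e
        _ = v := by rw [hv'def]; group
    exact (mul_inv_eq_iff_eq_mul.1 e').symm
  have hCle : Subgroup.centralizer (V : Set G) ≤ Subgroup.centralizer (W : Set G) :=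
    Subgroup.centralizer_le hWV
  have hb := c.bdd M (hMU.trans c.hUL) (fun m hm => hCle (hsqM m hm))
    (fun m hm k hk => hCle (hcmM m hm k hk))
  have hW4 : (Subgroup.centralizer (M : Set G)).relIndex W ≤ C₀.relIndex W :=
    relIndex_cj_le (Subgroup.le_centralizer_iff.1 hMC₀) _
  have hW4' : C₀.relIndex W ≤ 4 :=
    hC₀H4 ▸ Subgroup.relIndex_le_of_le_right hWH Subgroup.index_ne_zero_of_finite
  set r := (Subgroup.centralizer (W : Set G)).relIndex M with hr
  have hr2 : r ≤ 2 := by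
    have hr9 : r ^ 2 ≤ 4 := hb.trans (hW4.trans hW4')
    nlinarith
  rcases eq_or_ne r 1 with hr1 | hr1
  · refine huV ?_
    have hMW := Subgroup.relIndex_eq_one.1 hr1
    have hle : M ≤ Subgroup.centralizer (V : Set G) := by
      rw [hVdef, centralizer_iSup]
      refine le_iInf fun y => ?_
      show M ≤ Subgroup.centralizer (cj (y : G) W : Set G)
      rw [centralizer_cj, ← mem_normalizer_iff_cj.1 ((Subgroup.zpowers_le.2 hxM) y.2)]
      exact cj_mono hMW
    exact hle huM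
  have hrpos := relIndex_pos (Subgroup.centralizer (W : Set G)) M
  rw [← hr] at hrpos
  have hr_eq : r = 2 := by omega
  rw [hr_eq] at hb
  have hWeq : C₀.relIndex W = 4 := by omega
  have hWC₀ : W ⊔ C₀ = H := by
    refine eq_of_relIndex_le (sup_le hWH hC₀H) le_rfl ?_
    have h1 : C₀.relIndex (W ⊔ C₀) = 4 :=
      (relIndex_sup_eq (hWV.trans hVC₀)).trans hWeq
    have h2 := Subgroup.relIndex_mul_relIndex C₀ (W ⊔ C₀) H le_sup_right (sup_le hWH hC₀H)
    rw [h1, hC₀H4] at h2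
    rw [Subgroup.relIndex_self]
    omega
  have hM0 : (Subgroup.centralizer (H : Set G)).relIndex M ≤ 2 := by
    rw [← hr_eq, hr, ← Subgroup.inf_relIndex_right (Subgroup.centralizer (W : Set G))]
    refine relIndex_cj_le ?_ _
    rw [← hWC₀, Subgroup.le_centralizer_iff]
    refine sup_le (Subgroup.le_centralizer_iff.1 inf_le_left) ?_
    exact Subgroup.le_centralizer_iff.1 (inf_le_right.trans hMC₀)
  have hM0' : (Subgroup.centralizer (H' : Set G)).relIndex M ≤ 2 := by
    rw [hH', centralizer_cj, ← mem_normalizer_iff_cj.1 hxM, relIndex_cj]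
    exact hM0
  have hMV4 : (Subgroup.centralizer (V : Set G)).relIndex M ≤ 4 := by
    rw [← hspan, show Subgroup.centralizer ((H ⊔ H' : Subgroup G) : Set G)
        = Subgroup.centralizer (H : Set G) ⊓ Subgroup.centralizer (H' : Set G) from
      le_antisymm (le_inf (Subgroup.centralizer_le (SetLike.coe_subset_coe.2 le_sup_left))
          (Subgroup.centralizer_le (SetLike.coe_subset_coe.2 le_sup_right)))
        (Subgroup.le_centralizer_iff.2 (sup_le (Subgroup.le_centralizer_iff.1 inf_le_left)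
          (Subgroup.le_centralizer_iff.1 inf_le_right)))]
    exact Subgroup.relIndex_inf_le.trans (Nat.mul_le_mul hM0 hM0')
  -- two of the conjugates `xʲ u x⁻ʲ`, `j ≤ 3`, agree modulo the centraliser of `V`
  set z : Fin 4 → G := fun j => x ^ (j : ℕ) * u * (x ^ (j : ℕ))⁻¹ with hzdef
  have hzM : ∀ j, z j ∈ M := fun j =>
    Subgroup.subset_closure ⟨_, Subgroup.pow_mem _ (Subgroup.mem_zpowers x) _, rfl⟩
  have hzne : ∀ j, z j ∉ Subgroup.centralizer (V : Set G) := fun j h => huV (by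
    rw [← mem_normalizer_iff_cj.1 (Subgroup.pow_mem _ hxV (j : ℕ)), centralizer_cj] at h
    simpa [hzdef, mul_assoc] using mem_cj.1 h)
  have hzker : ∀ i j : Fin 4, (z i)⁻¹ * z j ∈ Subgroup.centralizer (V : Set G) →
      cj (x ^ (i : ℕ)) H ≤ cj (x ^ (j : ℕ)) H := by
    intro i j h v hv
    have hiH := mem_cj.1 hv
    have hvV : v ∈ V := le_of_le_of_eq (cj_mono hHV)
      (mem_normalizer_iff_cj.1 (Subgroup.pow_mem _ hxV (i : ℕ))) hv
    have hzi : z i * v * (z i)⁻¹ = v := by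
      rw [hzdef]
      calc _ = x ^ (i : ℕ) * (u * ((x ^ (i : ℕ))⁻¹ * v * x ^ (i : ℕ)) * u⁻¹) * (x ^ (i : ℕ))⁻¹ := by
            group
        _ = v := by rw [huH _ hiH]; group
    have hzj : z j * v * (z j)⁻¹ = v := by
      have h2 := conj_of_mem_centralizer h hvV
      calc z j * v * (z j)⁻¹ = z i * ((z i)⁻¹ * z j * v * ((z i)⁻¹ * z j)⁻¹) * (z i)⁻¹ := by group
        _ = v := by rw [h2, hzi]
    refine mem_cj.2 (huker _ (by
      simpa using conj_mem (Subgroup.inv_mem _ (Subgroup.pow_mem _ hxV (j : ℕ))) hvV) ?_)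
    calc _ = (x ^ (j : ℕ))⁻¹ * (z j * v * (z j)⁻¹) * x ^ (j : ℕ) := by rw [hzdef]; group
      _ = _ := by rw [hzj]
  have hne12 : ∀ d, d = 1 ∨ d = 2 → cj (x ^ d) H ≠ H := by
    intro d hd h
    have hle : H ≤ C₀ := fun v hv => by
      have hv' : (x ^ d)⁻¹ * v * x ^ d ∈ H := mem_cj.1 (h.symm ▸ hv)
      have := hpair (x ^ d) (by rw [← pow_mul, mul_comm, pow_mul, hpow, one_pow])
        (by rw [← conj_pow, p.inv, inv_pow]) v hv hv'
      refine ⟨hHV hv, mem_centralizer_singleton'.2 ?_⟩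
      rcases hd with rfl | rfl
      · simpa using this
      · exact hfixx (by simpa [sq] using this) hpow
    rw [Subgroup.relIndex_eq_one.2 hle] at hC₀H4
    omega
  have hex : ∃ i j : Fin 4, i < j ∧ (z i)⁻¹ * z j ∈ Subgroup.centralizer (V : Set G) := by
    let q : Option (Fin 4) → M ⧸ (Subgroup.centralizer (V : Set G)).subgroupOf M :=
      fun o => o.elim (QuotientGroup.mk 1) fun j => QuotientGroup.mk ⟨z j, hzM j⟩
    have hninj : ¬ Function.Injective q := fun hq => by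
      have := Nat.card_le_card_of_injective q hq
      rw [← Subgroup.index_eq_card] at this
      change _ ≤ (Subgroup.centralizer (V : Set G)).relIndex M at this
      have h5 : Nat.card (Option (Fin 4)) = 5 := by simp
      omega
    simp only [Function.Injective, not_forall] at hninj
    obtain ⟨i, j, hq, hij⟩ := hninj
    have hone : ∀ j, q (some j) ≠ q none := fun j h => hzne j (by
      have := QuotientGroup.eq.1 h
      simpa [Subgroup.mem_subgroupOf] using this)
    match i, j with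
    | none, none => exact absurd rfl hij
    | some i, none => exact absurd hq (hone i)
    | none, some j => exact absurd hq.symm (hone j)
    | some i, some j =>
      rcases lt_or_gt_of_ne (fun h => hij (congrArg some h)) with hlt | hlt
      · exact ⟨i, j, hlt, (QuotientGroup.eq (s := (Subgroup.centralizer (V : Set G)).subgroupOf M) (a := ⟨z i, hzM i⟩) (b := ⟨z j, hzM j⟩)).1 hq⟩
      · exact ⟨j, i, hlt, (QuotientGroup.eq (s := (Subgroup.centralizer (V : Set G)).subgroupOf M) (a := ⟨z j, hzM j⟩) (b := ⟨z i, hzM i⟩)).1 hq.symm⟩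
  obtain ⟨i, j, hij, hzij⟩ := hex
  have hHd : cj (x ^ ((j : ℕ) - (i : ℕ))) H = H := by
    have h := hzker i j hzij
    have heq : cj (x ^ (i : ℕ)) H = cj (x ^ (j : ℕ)) H :=
      Subgroup.eq_of_le_of_card_ge h (le_of_eq ((card_cj _ _).trans (card_cj _ _).symm))
    have hd : x ^ (j : ℕ) = x ^ (i : ℕ) * x ^ ((j : ℕ) - (i : ℕ)) := by
      rw [← pow_add]; congr 1; omega
    rw [hd, cj_mul] at heq
    have := congrArg (cj (x ^ (i : ℕ))⁻¹) heq
    rw [cj_inv_cj, cj_inv_cj] at this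
    exact this.symm
  have hd3 : (j : ℕ) - (i : ℕ) = 3 := by
    by_contra h
    have hj4 := j.isLt
    have hij' : (i : ℕ) < (j : ℕ) := hij
    exact hne12 ((j : ℕ) - (i : ℕ)) (by omega) hHd
  rw [hd3] at hHd
  -- `x` has order three on `V`
  have hx3H : ∀ v ∈ H, x ^ 3 * v * (x ^ 3)⁻¹ = v := fun v hv =>
    hpair (x ^ 3) (by rw [← pow_mul, mul_comm, pow_mul, hpow, one_pow])
      (by rw [← conj_pow, p.inv, inv_pow]) v hv (mem_cj.1 (hHd.symm ▸ hv))
  obtain ⟨h, hh, hhC⟩ := SetLike.not_le_iff_exists.1 (fun hle : H ≤ C₀ => by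
    rw [Subgroup.relIndex_eq_one.2 hle] at hC₀H4; omega)
  set h₁ := x * h * x⁻¹ with hh₁
  set h₂ := x * h₁ * x⁻¹ with hh₂
  have h3 : x * h₂ * x⁻¹ = h := by
    calc _ = x ^ 3 * h * (x ^ 3)⁻¹ := by rw [hh₂, hh₁, pow_succ, pow_two]; group
      _ = h := hx3H h hh
  have hhV : h ∈ V := hHV hh
  have hh₁V : h₁ ∈ V := conj_mem hxV hhV
  have hh₂V : h₂ ∈ V := conj_mem hxV hh₁V
  set w := h * h₁ * h₂ with hw
  have hwV : w ∈ V := V.mul_mem (V.mul_mem hhV hh₁V) hh₂V
  have hxw : x * w * x⁻¹ = w := by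
    calc _ = h₁ * h₂ * h := by
          rw [show x * w * x⁻¹ = (x * h * x⁻¹) * (x * h₁ * x⁻¹) * (x * h₂ * x⁻¹) by rw [hw]; group,
            h3]
      _ = _ := (comm_el hVel (V.mul_mem hh₁V hh₂V) hhV).trans (mul_assoc h h₁ h₂).symm
  have hwC : w ∈ C₀ := ⟨hwV, mem_centralizer_singleton'.2 hxw⟩
  set e := h * w with he'
  set e₁ := x * e * x⁻¹ with he₁
  set e₂ := x * e₁ * x⁻¹ with he₂
  have heH : e ∈ H := H.mul_mem hh (hC₀H hwC)
  have heV : e ∈ V := hHV heH
  have he₁V : e₁ ∈ V := conj_mem hxV heV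
  have hee : e₁ = h₁ * w := by
    rw [he₁, he', show x * (h * w) * x⁻¹ = (x * h * x⁻¹) * (x * w * x⁻¹) by group, hxw]
  have hee₂ : e₂ = h₂ * w := by
    rw [he₂, hee, show x * (h₁ * w) * x⁻¹ = (x * h₁ * x⁻¹) * (x * w * x⁻¹) by group, hxw]
  have he12 : e * e₁ = e₂ := by
    rw [hee, hee₂, he', show h * w * (h₁ * w) = h * (w * h₁) * w by group, comm_el hVel hwV hh₁V,
      show h * (h₁ * w) * w = (h * h₁) * (w * w) by group, sq_one hVel hwV, mul_one]
    calc h * h₁ = h * h₁ * h₂ * h₂ := by rw [mul_assoc _ h₂ h₂, sq_one hVel hh₂V, mul_one]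
      _ = h₂ * w := by rw [← hw, comm_el hVel hwV hh₂V]
  have heC : e ∉ C₀ := fun h' => hhC (by simpa [he'] using C₀.mul_mem h' (C₀.inv_mem hwC))
  have hne1 : e₁ ≠ e := fun h' => heC ⟨heV, mem_centralizer_singleton'.2 h'⟩
  refine c.free (involves_perm_four (G := X) (e := ⟨e, hVX heV⟩) (f := ⟨e₁, hVX he₁V⟩)
    (k := ⟨x, p.hx⟩) (b := ⟨a, hAX p.ha⟩) (Subtype.ext (sq_one hVel heV))
    (Subtype.ext (sq_one hVel he₁V)) (Subtype.ext (comm_el hVel he₁V heV))
    (fun h' => heC (by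
      have h'' : e = 1 := congrArg Subtype.val h'
      rw [h'']; exact one_mem _))
    (fun h' => heC (by
      have h'' : x * e * x⁻¹ = 1 := congrArg Subtype.val h'
      rw [mul_inv_eq_one, mul_eq_left] at h''
      rw [h'']; exact one_mem _))
    (fun h' => hne1 (congrArg Subtype.val h').symm) (Subtype.ext he₁.symm) (Subtype.ext ?_)
    (Subtype.ext (hafix e heH)) (Subtype.ext ?_))
  · show x * e₁ * x⁻¹ = e * e₁
    rw [he12]
  · show a * e₁ * a⁻¹ = e * e₁
    have hai : a⁻¹ * e * a = e := by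
      conv_lhs => rw [← hafix e heH]
      group
    calc a * e₁ * a⁻¹ = (a * x * a⁻¹) * (a * e * a⁻¹) * (a * x * a⁻¹)⁻¹ := by rw [he₁]; group
      _ = x⁻¹ * e * x := by rw [p.inv, hafix e heH, inv_inv]
      _ = x ^ 2 * e * (x ^ 2)⁻¹ := by
        have h' := hx3H e heH
        conv_lhs => rw [← h']
        group
      _ = e * e₁ := by rw [he12, he₂, he₁, sq]; group

end CfsgLib.LocalEven.S4W
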