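import Cfsg.Agent.Lib.LocalEven.S4Solvable.InCore
import Cfsg.Agent.Lib.LocalEven.S4Solvable.Offender
import Cfsg.Prelude.Def_CaseTheorems

/-!
In a solvable group of characteristic two without a section `S₄`, the subgroup `W` is normal.
-/

set_option autoImplicit false

namespace CfsgLib.LocalEven.S4W

open Cfsg Equiv CfsgLib.Techniques

variable {G : Type*} [Group G] [Finite G]

theorem zpow_two_cases {M : Type*} [Group M] {a : M} (ha : a * a = 1) (k : ℤ) :
    a ^ k = 1 ∨ a ^ k = a := by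
  rcases Int.even_or_odd k with ⟨m, rfl⟩ | ⟨m, rfl⟩
  · exact Or.inl (by rw [← two_mul, zpow_mul, zpow_two, ha, one_zpow])
  · exact Or.inr (by rw [zpow_add_one, zpow_mul, zpow_two, ha, one_zpow, one_mul])

set_option maxHeartbeats 1600000 in
/-- The normality of `W`. -/
theorem le_normalizer_aux {U L W : Subgroup G} (hU : IsPGroup 2 U) (hW : IsElementaryAbelian 2 W)
    (hWU : W ≤ U) (hUW : U ≤ Subgroup.normalizer (W : Set G))
    (hWA : ∀ A, MaxEl U A → W ≤ A) (hUL : U ≤ L) (hbdd : Bdd L W) (n : ℕ) :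
    ∀ X : Subgroup G, Nat.card X ≤ n → U ≤ X →
      (∀ P : Subgroup G, IsPGroup 2 P → U ≤ P → P ≤ X → P = U) →
      Group.IsSolvable X → ¬ Involves (Perm (Fin 4)) X → Cfsg.IsOfCharacteristicTwo X →
      X ⊓ Subgroup.normalizer (Jel U : Set G) ≤ Subgroup.normalizer (W : Set G) →
      X ≤ Subgroup.normalizer (W : Set G) := by
  haveI : Fact (Nat.Prime 2) := ⟨Nat.prime_two⟩
  induction n with
  | zero => intro X hX; exact absurd (Nat.card_pos (α := X)) (by omega)
  | succ n ih =>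
  intro X hn hUX hsyl hsol hfree hchar hJ
  haveI := hsol
  set O := pCore 2 X with hO
  set Q := O.map X.subtype with hQ
  have hQX : Q ≤ X := Subgroup.map_subtype_le _
  have hmemQ : ∀ {y : G} (hy : y ∈ X), y ∈ Q ↔ (⟨y, hy⟩ : X) ∈ O := fun {y} hy =>
    ⟨fun ⟨z, hz, e⟩ => (show z = ⟨y, hy⟩ from Subtype.ext e) ▸ hz, fun h => ⟨_, h, rfl⟩⟩
  haveI hOn : O.Normal := by rw [hO]; infer_instance
  have hXQ : X ≤ Subgroup.normalizer (Q : Set G) := fun g hg =>
    mem_normalizer_of_conj_mem (by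
      rintro _ ⟨z, hz, rfl⟩
      exact ⟨⟨g, hg⟩ * z * ⟨g, hg⟩⁻¹, hOn.conj_mem z hz _, rfl⟩)
  have hQp : IsPGroup 2 Q := (Base.isPGroup_pCore 2 X).map _
  have hQU : Q ≤ U := by
    have := hsyl (U ⊔ Q) (hU.to_sup_of_normal_right' hQp (hUX.trans hXQ)) le_sup_left
      (sup_le hUX hQX)
    exact this ▸ le_sup_right
  have hCQ : ∀ y ∈ X, y ∈ Subgroup.centralizer (Q : Set G) → y ∈ Q := by
    intro y hy hc
    refine (hmemQ hy).2 (hchar (Subgroup.mem_centralizer_iff.2 fun z hz => Subtype.ext ?_))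
    exact Subgroup.mem_centralizer_iff.1 hc _ ⟨z, hz, rfl⟩
  have ctx : Ctx U X L W Q := ⟨hU, hUX, hfree, hW, hWU, hUW, hWA, hUL, hbdd, hQU, hXQ, hCQ⟩
  set π := QuotientGroup.mk' O with hπ
  have hπs : Function.Surjective π := QuotientGroup.mk'_surjective _
  have hπ1 : ∀ y : X, π y = 1 ↔ (y : G) ∈ Q := fun y => by
    rw [hπ, QuotientGroup.mk'_apply, QuotientGroup.eq_one_iff, hmemQ y.2]
  have hsolq : Group.IsSolvable (X ⧸ O) := Group.isSolvable_of_surjective hπs
  set K := pPrimeCore 2 (X ⧸ O) with hK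
  haveI hKn : K.Normal := by rw [hK]; infer_instance
  have hOq : pCore 2 (X ⧸ O) = ⊥ := Base.pCore_quotient_pCore 2 X
  have hKC : Subgroup.centralizer (K : Set (X ⧸ O)) ≤ K :=
    FgsC.HallHigmanB.centralizer_pPrimeCore_le PLocal.isPSolvable_of_isSolvable hOq
  have hKtop : ∀ A : Subgroup (X ⧸ O), A ≤ Subgroup.normalizer (K : Set (X ⧸ O)) := fun A => by
    rw [Subgroup.normalizer_eq_top]; exact le_top
  have hcop : ∀ P : Subgroup (X ⧸ O), IsPGroup 2 P → (Nat.card P).Coprime (Nat.card K) := by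
    intro P hP
    obtain ⟨j, hj⟩ := IsPGroup.iff_card.1 hP
    rw [hj]
    exact ((Base.pPrimeCore_coprime 2 _).symm).pow_left j
  let im : Subgroup G → Subgroup (X ⧸ O) := fun A => (A.subgroupOf X).map π
  have him : ∀ {A : Subgroup G}, IsPGroup 2 A → IsPGroup 2 (im A) := fun hA =>
    (hA.comap_of_injective X.subtype Subtype.val_injective).map π
  have himmem : ∀ {A : Subgroup G} {g : G} (hg : g ∈ X), g ∈ A → π ⟨g, hg⟩ ∈ im A :=
    fun hg h => ⟨_, h, rfl⟩
  have himmono : ∀ {A B : Subgroup G}, A ≤ B → im A ≤ im B :=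
    fun h => Subgroup.map_mono (Subgroup.comap_mono h)
  -- pairs from the quotient
  have hdata : ∀ A : Subgroup G, A ≤ X → IsElementaryAbelian 2 A →
      ∀ B : Subgroup (X ⧸ O), B ≤ im A → ∀ α ∈ im A, B ⊔ Subgroup.zpowers α = im A →
      ∀ k ∈ K, k ∈ Subgroup.centralizer (B : Set (X ⧸ O)) →
      ∃ a A₁, ∃ x : X, Pair X Q A A₁ a (x : G) ∧ π x = k⁻¹ * (α * k * α⁻¹) ∧
        π x ∈ K ⊓ Subgroup.centralizer (B : Set (X ⧸ O)) ∧ α * π x * α⁻¹ = (π x)⁻¹ := by
    intro A hAX hAel B hB α hα hBα k hkK hkB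
    obtain ⟨⟨a, haX⟩, haA, rfl⟩ := hα
    obtain ⟨k₀, rfl⟩ := hπs k
    have ha2 : a * a = 1 := sq_one hAel haA
    set a' : X := ⟨a, haX⟩
    have ha'2 : a' * a' = 1 := Subtype.ext ha2
    set y := k₀⁻¹ * (a' * k₀ * a'⁻¹) with hy
    have hyinv : a' * y * a'⁻¹ = y⁻¹ := by
      rw [hy]
      calc a' * (k₀⁻¹ * (a' * k₀ * a'⁻¹)) * a'⁻¹ = a' * k₀⁻¹ * a' * k₀ * (a' * a')⁻¹ := by group
        _ = a' * k₀⁻¹ * a'⁻¹ * k₀ := by
          rw [ha'2, inv_one, mul_one, inv_eq_of_mul_eq_one_right ha'2]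
        _ = _ := by group
    have hyK : π y ∈ K := by
      simp only [hy, map_mul, map_inv]
      exact K.mul_mem (K.inv_mem hkK) (hKn.conj_mem _ hkK _)
    have hodd : Odd (orderOf (π y)) := Odd.of_dvd_nat
      (Nat.coprime_two_right.1 (Base.pPrimeCore_coprime 2 _)) (Subgroup.orderOf_dvd_natCard K hyK)
    obtain ⟨x, -, hxodd, hxinv, hxy⟩ := exists_odd_lift π hyinv hodd
    have hab : ∀ b ∈ B, Commute b (π a') := by
      intro b hb
      obtain ⟨b', hb', rfl⟩ := hB hb
      show π b' * π a' = π a' * π b'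
      rw [← map_mul, ← map_mul, (Subtype.ext (comm_el hAel hb' haA) : b' * a' = a' * b')]
    have hxB : ∀ b ∈ B, Commute b (π x) := by
      intro b hb
      have h1 : Commute b (π k₀) := Subgroup.mem_centralizer_iff.1 hkB b hb
      rw [hxy, hy, map_mul, map_mul, map_mul, map_inv, map_inv]
      exact h1.inv_right.mul_right (((hab b hb).mul_right h1).mul_right (hab b hb).inv_right)
    refine ⟨a, A ⊓ (B.comap π).map X.subtype, x, ⟨inf_le_left, haA, ?_, x.2,
      by rwa [Subgroup.orderOf_coe], congrArg Subtype.val hxinv, ?_⟩, ?_, ⟨hxy ▸ hyK,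
      Subgroup.mem_centralizer_iff.2 fun b hb => hxB b hb⟩, ?_⟩
    · intro w hw
      have hwim : π ⟨w, hAX hw⟩ ∈ B ⊔ Subgroup.zpowers (π a') := hBα.symm ▸ himmem (hAX hw) hw
      obtain ⟨b, hb, _, ⟨m, rfl⟩, hbm⟩ := (Coprime.mem_sup_iff_of_le_normalizer
        (show B ≤ Subgroup.normalizer (Subgroup.zpowers (π a') : Set (X ⧸ O)) from fun b hb =>
          Subgroup.centralizer_le_normalizer _ (Subgroup.mem_centralizer_iff.2 fun g hg => by
            obtain ⟨m, rfl⟩ := Subgroup.mem_zpowers_iff.1 hg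
            exact ((hab b hb).zpow_right m).symm))).1 hwim
      rcases zpow_two_cases (by rw [← map_mul, ha'2, map_one] : π a' * π a' = 1) m with e | e
      · refine Or.inl ⟨hw, ⟨w, hAX hw⟩, ?_, rfl⟩
        show π ⟨w, hAX hw⟩ ∈ B
        rw [← hbm]
        simp only at e ⊢
        rw [e, mul_one]; exact hb
      · refine Or.inr ⟨A.mul_mem hw haA, ⟨w * a, X.mul_mem (hAX hw) haX⟩, ?_, rfl⟩
        show π (⟨w, hAX hw⟩ * a') ∈ B
        rw [map_mul, ← hbm]
        simp only at e ⊢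
        rw [e, mul_assoc, ← map_mul, ha'2, map_one, mul_one]; exact hb
    · rintro b ⟨hbA, b', hb', rfl⟩
      refine (hπ1 (x * b' * x⁻¹ * b'⁻¹)).1 ?_
      simp only [map_mul, map_inv]
      rw [← (hxB _ hb').eq, mul_inv_cancel_right, mul_inv_cancel]
    · rw [hxy, hy]; simp
    · rw [← map_inv, ← map_mul, ← map_mul, ← map_inv, hxinv]
  -- `W` lies in `Q`
  have hWQ : W ≤ Q := by
    by_contra hle
    obtain ⟨w, hw, hwQ⟩ := SetLike.not_le_iff_exists.1 hle
    have hWX : W ≤ X := hWU.trans hUX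
    have hWim : IsElementaryAbelian 2 (im W) := el_map π
      ⟨⟨⟨fun ⟨u, hu⟩ ⟨v, hv⟩ => Subtype.ext (Subtype.ext (comm_el hW hu hv))⟩⟩,
        fun u hu => Subtype.ext (by simpa using hW.2 _ (show (u : G) ∈ W from hu))⟩
    haveI := hWim.1
    have hnot : ¬ K ≤ Subgroup.centralizer (im W : Set (X ⧸ O)) := fun hle' => hwQ (by
      have h1 : im W ≤ K := (Subgroup.le_centralizer_iff.1 hle').trans hKC
      have h2 : im W = ⊥ := inf_eq_left.2 h1 ▸ Coprime.inf_eq_bot_of_coprime (hcop _ (him (hU.to_le hWU)))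
      refine (hπ1 ⟨w, hWX hw⟩).1 (Subgroup.mem_bot.1 ?_)
      rw [← h2]
      exact himmem _ hw)
    obtain ⟨B, hB, ⟨α, hα, hBα⟩, hnot'⟩ : ∃ B ≤ im W, (∃ α ∈ im W, B ⊔ Subgroup.zpowers α = im W) ∧
        ¬ K ⊓ Subgroup.centralizer (B : Set (X ⧸ O)) ≤ Subgroup.centralizer (im W : Set (X ⧸ O)) := by
      by_contra h
      push Not at h
      exact hnot (Coprime.le_of_cyclic_quotient (hKtop _) (hcop _ (him (hU.to_le hWU)))
        fun B hB hBc => h B hB hBc)
    obtain ⟨k, ⟨hkK, hkB⟩, hkW⟩ := SetLike.not_le_iff_exists.1 hnot'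
    obtain ⟨a, A₁, x, p, hπx, -, -⟩ := hdata W hWX hW B hB α hα hBα k hkK hkB
    refine ctx.no_pair_in_W p fun hxQ => hkW (Subgroup.mem_centralizer_iff.2 fun e he =>
      Subgroup.mem_centralizer_singleton_iff.1 ((?_ : im W ≤ Subgroup.centralizer {k}) he))
    rw [(hπ1 x).2 hxQ, eq_comm, inv_mul_eq_one, eq_comm, mul_inv_eq_iff_eq_mul] at hπx
    rw [← hBα, sup_le_iff, Subgroup.zpowers_le]
    exact ⟨fun b hb => Subgroup.mem_centralizer_singleton_iff.2
      (Subgroup.mem_centralizer_iff.1 hkB b hb), Subgroup.mem_centralizer_singleton_iff.2 hπx⟩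
  -- conjugates of `W` commute
  have hconj : ∀ g ∈ X, cj g W ≤ Q := fun g hg =>
    le_of_le_of_eq (cj_mono hWQ) (mem_normalizer_iff_cj.1 (hXQ hg))
  have hsmall : ∀ g ∈ X, (Subgroup.centralizer (W : Set G)).relIndex (cj g W) ^ 2 ≤
      (Subgroup.centralizer (cj g W : Set G)).relIndex W := fun g hg =>
    hbdd.apply ((hconj g hg).trans (hQU.trans hUL)) (el_map _ hW)
  have hcomm₁ : ∀ g ∈ X, W ≤ Subgroup.centralizer (cj g W : Set G) := by
    intro g hg
    refine Subgroup.relIndex_eq_one.1 ?_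
    have h1 := hsmall g hg
    have h2 := hsmall g⁻¹ (X.inv_mem hg)
    rw [← relIndex_cj g (Subgroup.centralizer (W : Set G)) (cj g⁻¹ W), ← centralizer_cj, cj_cj_inv,
      ← relIndex_cj g (Subgroup.centralizer (cj g⁻¹ W : Set G)) W, ← centralizer_cj, cj_cj_inv] at h2
    have h3 := relIndex_pos (Subgroup.centralizer (cj g W : Set G)) W
    have h4 := relIndex_pos (Subgroup.centralizer (W : Set G)) (cj g W)
    nlinarith
  have hcomm : ∀ g ∈ X, ∀ h ∈ X, cj g W ≤ Subgroup.centralizer (cj h W : Set G) := by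
    intro g hg h hh
    have := cj_mono (g := g) (hcomm₁ (g⁻¹ * h) (X.mul_mem (X.inv_mem hg) hh))
    rwa [← centralizer_cj, ← cj_mul, mul_inv_cancel_left] at this
  -- the image of the normalizer
  set R := (X ⊓ Subgroup.normalizer (W : Set G) : Subgroup G) with hR
  have hRmem : ∀ y : X, (y : G) ∈ Subgroup.normalizer (W : Set G) → π y ∈ im R :=
    fun y hy => ⟨y, ⟨y.2, hy⟩, rfl⟩
  have hUR : im U ≤ im R := himmono (le_inf hUX hUW)
  -- each member of `Jel U` commutes `K` into the image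
  have hAK : ∀ A, MaxEl U A → ∀ k ∈ K, ∀ α ∈ im A, k * α * k⁻¹ ∈ im R := by
    intro A hA
    have hAX : A ≤ X := hA.le.trans hUX
    have hAim : IsElementaryAbelian 2 (im A) := el_map π
      ⟨⟨⟨fun ⟨u, hu⟩ ⟨v, hv⟩ => Subtype.ext (Subtype.ext (comm_el hA.el hu hv))⟩⟩,
        fun u hu => Subtype.ext (by simpa using hA.el.2 _ (show (u : G) ∈ A from hu))⟩
    haveI := hAim.1
    set P : Set (X ⧸ O) := {q | ∃ B ≤ im A, ∃ α ∈ im A, B ⊔ Subgroup.zpowers α = im A ∧
      ∃ k ∈ K ⊓ Subgroup.centralizer (B : Set (X ⧸ O)), q = k⁻¹ * (α * k * α⁻¹)} with hP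
    set T := Subgroup.closure P with hT
    have hTR : T ≤ im R := by
      rw [hT, Subgroup.closure_le]
      rintro _ ⟨B, hB, α, hα, hBα, k, ⟨hkK, hkB⟩, rfl⟩
      obtain ⟨a, A₁, x, p, hπx, -, -⟩ := hdata A hAX hA.el B hB α hα hBα k hkK hkB
      rw [← hπx]
      exact hRmem x (ctx.mem_normalizer_of_pair hconj hcomm hA p)
    set C := K ⊓ Subgroup.centralizer (im A : Set (X ⧸ O)) with hC
    have hCT : C ≤ Subgroup.normalizer (T : Set (X ⧸ O)) := by
      intro c hc
      rw [mem_normalizer_iff_cj]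
      refine Subgroup.eq_of_le_of_card_ge ?_ (le_of_eq (card_cj c T).symm)
      show Subgroup.map _ T ≤ T
      rw [hT, MonoidHom.map_closure, Subgroup.closure_le]
      rintro _ ⟨_, ⟨B, hB, α, hα, hBα, k, ⟨hkK, hkB⟩, rfl⟩, rfl⟩
      have hca : ∀ b ∈ im A, Commute b c := fun b hb => Subgroup.mem_centralizer_iff.1 hc.2 b hb
      refine Subgroup.subset_closure ⟨B, hB, α, hα, hBα, c * k * c⁻¹,
        ⟨hKn.conj_mem k hkK c, Subgroup.mem_centralizer_iff.2 fun b hb => ?_⟩, ?_⟩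
      · have h1 : Commute b k := Subgroup.mem_centralizer_iff.1 hkB b hb
        exact (((hca b (hB hb)).mul_right h1).mul_right (hca b (hB hb)).inv_right).eq
      · show c * (k⁻¹ * (α * k * α⁻¹)) * c⁻¹ = _
        calc c * (k⁻¹ * (α * k * α⁻¹)) * c⁻¹
            = (c * k * c⁻¹)⁻¹ * ((c * α * c⁻¹) * (c * k * c⁻¹) * (c * α * c⁻¹)⁻¹) := by group
          _ = _ := by rw [← (hca α hα).eq, mul_inv_cancel_right]
    have hAT : ∀ β ∈ im A, β ∈ Subgroup.normalizer (T : Set (X ⧸ O)) := by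
      intro β hβ
      rw [mem_normalizer_iff_cj]
      refine Subgroup.eq_of_le_of_card_ge ?_ (le_of_eq (card_cj β T).symm)
      show Subgroup.map _ T ≤ T
      rw [hT, MonoidHom.map_closure, Subgroup.closure_le]
      rintro _ ⟨_, ⟨B, hB, α, hα, hBα, k, ⟨hkK, hkB⟩, rfl⟩, rfl⟩
      have hcβ : ∀ b ∈ im A, Commute b β := fun b hb => comm_el hAim hb hβ
      refine Subgroup.subset_closure ⟨B, hB, α, hα, hBα, β * k * β⁻¹,
        ⟨hKn.conj_mem k hkK β, Subgroup.mem_centralizer_iff.2 fun b hb => ?_⟩, ?_⟩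
      · have h1 : Commute b k := Subgroup.mem_centralizer_iff.1 hkB b hb
        exact (((hcβ b (hB hb)).mul_right h1).mul_right (hcβ b (hB hb)).inv_right).eq
      · show β * (k⁻¹ * (α * k * α⁻¹)) * β⁻¹ = _
        calc β * (k⁻¹ * (α * k * α⁻¹)) * β⁻¹
            = (β * k * β⁻¹)⁻¹ * ((β * α * β⁻¹) * (β * k * β⁻¹) * (β * α * β⁻¹)⁻¹) := by group
          _ = _ := by rw [← (hcβ α hα).eq, mul_inv_cancel_right]
    have hKle : K ≤ C ⊔ T := by
      refine Coprime.le_of_cyclic_quotient (hKtop _) (hcop _ (him (hU.to_le hA.le))) fun B hB hBc => ?_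
      rintro k ⟨hkK, hkB⟩
      obtain ⟨α, hα, hBα⟩ := hBc
      obtain ⟨a, A₁, x, p, hπx, ⟨hxK, hxB⟩, hxinv⟩ := hdata A hAX hA.el B hB α hα hBα k hkK hkB
      set q := π x with hq
      have hqT : q ∈ T := hπx ▸ Subgroup.subset_closure ⟨B, hB, α, hα, hBα, k, ⟨hkK, hkB⟩, rfl⟩
      obtain ⟨m, hm⟩ : Odd (orderOf q) := Odd.of_dvd_nat
        (Nat.coprime_two_right.1 (Base.pPrimeCore_coprime 2 _)) (Subgroup.orderOf_dvd_natCard K hxK)
      set r := q ^ (m + 1) with hr
      have hrr : r * r = q := by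
        rw [hr, ← pow_add, show m + 1 + (m + 1) = orderOf q + 1 by omega, pow_succ,
          pow_orderOf_eq_one, one_mul]
      have hrinv : α * r * α⁻¹ = r⁻¹ := by rw [hr, ← conj_pow, hxinv, inv_pow]
      have hkr : k * r ∈ C := by
        refine ⟨K.mul_mem hkK (K.pow_mem hxK _), ?_⟩
        have hle' : im A ≤ Subgroup.centralizer {k * r} := by
          rw [← hBα, sup_le_iff, Subgroup.zpowers_le]
          refine ⟨fun b hb => Subgroup.mem_centralizer_singleton_iff.2 ?_,
            Subgroup.mem_centralizer_singleton_iff.2 ?_⟩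
          · exact ((show Commute b k from Subgroup.mem_centralizer_iff.1 hkB b hb).mul_right
              ((show Commute b q from Subgroup.mem_centralizer_iff.1 hxB b hb).pow_right _)).eq
          · have hk' : α * k * α⁻¹ = k * q := by rw [hπx]; group
            calc α * (k * r) = (α * k * α⁻¹) * (α * r * α⁻¹) * α := by group
              _ = _ := by rw [hk', hrinv, ← hrr]; group
        exact Subgroup.mem_centralizer_iff.2 fun b hb =>
          Subgroup.mem_centralizer_singleton_iff.1 (hle' hb)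
      have := Subgroup.mul_mem_sup hkr (T.inv_mem (T.pow_mem hqT (m + 1)))
      rwa [mul_inv_cancel_right] at this
    intro k hk α hα
    obtain ⟨c, hc, t, ht, rfl⟩ := (Coprime.mem_sup_iff_of_le_normalizer hCT).1 (hKle hk)
    have h1 : c * t * α * (c * t)⁻¹ = (c * (t * (α * t⁻¹ * α⁻¹)) * c⁻¹) * (c * α * c⁻¹) := by group
    have h2 : c * α * c⁻¹ = α := by
      rw [← Subgroup.mem_centralizer_iff.1 hc.2 α hα, mul_inv_cancel_right]
    rw [h1, h2]
    exact (im R).mul_mem (hTR (conj_mem (hCT hc) (T.mul_mem ht (conj_mem (hAT α hα) (T.inv_mem ht)))))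
      (hUR (himmono hA.le hα))
  -- hence `K` lies in the image
  set J := Jel U with hJdef
  have hJU : J ≤ U := Jel_le U
  have hJim : im J ≤ im R := (himmono hJU).trans hUR
  have hKJ : ⁅K, im J⁆ ≤ im R := by
    rw [Subgroup.commutator_le]
    intro k hk j hj
    have hle : im J ≤ (im R).comap (MulAut.conj k).toMonoidHom := by
      obtain ⟨j₀, hj₀⟩ : ∃ S : Subgroup X, S = ((im R).comap (MulAut.conj k).toMonoidHom).comap π :=
        ⟨_, rfl⟩
      refine Subgroup.map_le_iff_le_comap.2 ?_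
      rw [← hj₀]
      intro y hy
      have hJle : J ≤ j₀.map X.subtype := sSup_le fun A hA y hy => by
        refine ⟨⟨y, hUX (hA.le hy)⟩, ?_, rfl⟩
        rw [SetLike.mem_coe, hj₀]
        exact hAK A hA k hk _ (himmem _ hy)
      obtain ⟨y', hy', e⟩ := hJle (show (y : G) ∈ J from hy)
      exact (show y' = y from Subtype.ext e) ▸ hy'
    rw [commutatorElement_def]
    exact (im R).mul_mem (hle hj) ((im R).inv_mem (hJim hj))
  have hKR : K ≤ im R := by
    intro k hk
    have hJp : IsPGroup 2 (im J) := him (hU.to_le hJU)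
    obtain ⟨c, hc, hkc⟩ := Coprime.exists_commutator_mul_centralizer (hKtop _) (hcop _ hJp)
      (Or.inl inferInstance) hk
    obtain ⟨c₀, rfl⟩ := hπs c
    suffices h : π c₀ ∈ im R by simpa using (im R).mul_mem (hKJ hkc) h
    refine hRmem c₀ (hJ ⟨c₀.2, mem_normalizer_iff_cj.2 ?_⟩)
    refine Subgroup.eq_of_le_of_card_ge ?_ (le_of_eq (card_cj _ _).symm)
    show Subgroup.map _ J ≤ J
    rw [hJdef, Jel, Subgroup.map_le_iff_le_comap]
    refine sSup_le fun A hA => ?_
    rw [← Subgroup.map_le_iff_le_comap]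
    refine (hA.map ?_).le_Jel
    rintro _ ⟨y, hy, rfl⟩
    have hyJ : y ∈ J := hA.le_Jel hy
    have h1 := Subgroup.mem_centralizer_iff.1 hc.2 _ (himmem (hUX (hA.le hy)) hyJ)
    have h2 : π (c₀ * ⟨y, hUX (hA.le hy)⟩ * c₀⁻¹ * ⟨y, hUX (hA.le hy)⟩⁻¹) = 1 := by
      simp only [map_mul, map_inv]
      rw [← h1, mul_inv_cancel_right, mul_inv_cancel]
    have h3 := hQU ((hπ1 _).1 h2)
    simpa using U.mul_mem h3 (hA.le hy)
  -- Frattini and induction
  set M := (pCore 2 ((X ⧸ O) ⧸ K)).comap (QuotientGroup.mk' K) with hM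
  haveI : M.Normal := by rw [hM]; infer_instance
  have hKM : K ≤ M := fun k hk => by
    rw [hM, Subgroup.mem_comap, QuotientGroup.mk'_apply, (QuotientGroup.eq_one_iff k).2 hk]
    exact one_mem _
  have hsylX : ∀ P : Subgroup X, IsPGroup 2 P → U.subgroupOf X ≤ P → P = U.subgroupOf X := by
    intro P hP hle
    have := hsyl (P.map X.subtype) (hP.map _)
      (by rw [← Subgroup.map_subgroupOf_eq_of_le hUX]; exact Subgroup.map_mono hle)
      (Subgroup.map_subtype_le _)
    rw [← this, Subgroup.subgroupOf, Subgroup.comap_map_eq_self_of_injective X.subtype_injective]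
  let S : Sylow 2 X :=
    ⟨U.subgroupOf X, hU.comap_of_injective X.subtype Subtype.val_injective, fun hP hle => hsylX _ hP hle⟩
  set S' := S.mapSurjective hπs
  have hsylIn : Fusion.IsSylIn 2 (im U ⊓ M) M := Fusion.isSylIn_inf
    (⟨le_top, (him hU), fun C hC hle _ => S'.3 hC hle⟩ :
      Fusion.IsSylIn 2 (im U) (⊤ : Subgroup (X ⧸ O)))
    le_top fun b _ m hm => ‹M.Normal›.conj_mem m hm b
  obtain ⟨P, hP⟩ := (Fusion.exists_sylow_iff inf_le_right).2 hsylIn
  set T := (P : Subgroup M).map M.subtype with hT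
  have hTeq : T = im U ⊓ M := by
    rw [hT, hP, Subgroup.map_subgroupOf_eq_of_le inf_le_right]
  have hTU : T ≤ im U := hTeq ▸ inf_le_left
  have hfr : Subgroup.normalizer (T : Set (X ⧸ O)) ⊔ M = ⊤ := Sylow.normalizer_sup_eq_top P
  set X₁ := ((Subgroup.normalizer (T : Set (X ⧸ O))).comap π).map X.subtype with hX₁
  have hX₁X : X₁ ≤ X := Subgroup.map_subtype_le _
  have hMR : Subgroup.normalizer (T : Set (X ⧸ O)) ≤ im R → X ≤ Subgroup.normalizer (W : Set G) := by
    intro hle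
    have hMle : M ≤ im R := by
      have hodd : Odd ((im R).relIndex M) := by
        have h := Sylow.not_dvd_index P
        rw [Nat.odd_iff]
        have h1 : (im R).relIndex M ∣ (P : Subgroup M).index := by
          rw [← Subgroup.inf_relIndex_right]
          have : (P : Subgroup M).index = T.relIndex M := by
            rw [hT, Subgroup.relIndex, Subgroup.subgroupOf,
              Subgroup.comap_map_eq_self_of_injective M.subtype_injective]
          rw [this]
          exact Subgroup.relIndex_dvd_of_le_left _ (le_inf (hTU.trans hUR) (Subgroup.map_subtype_le _))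
        by_contra h2
        exact h ((Nat.dvd_of_mod_eq_zero (by omega)).trans h1)
      have hpow : ∃ j, K.relIndex M = 2 ^ j := by
        obtain ⟨j, hj⟩ := IsPGroup.iff_card.1 (Base.isPGroup_pCore 2 ((X ⧸ O) ⧸ K))
        refine ⟨j, ?_⟩
        rw [← hj, ← Subgroup.map_comap_eq_self_of_surjective (QuotientGroup.mk'_surjective K)
          (pCore 2 ((X ⧸ O) ⧸ K)), ← hM, ← Subgroup.relIndex_ker, QuotientGroup.ker_mk']
      obtain ⟨j, hj⟩ := hpow
      obtain ⟨i, -, hi⟩ := (Nat.dvd_prime_pow Nat.prime_two).1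
        (hj ▸ Subgroup.relIndex_dvd_of_le_left M hKR : (im R).relIndex M ∣ 2 ^ j)
      rw [hi] at hodd
      refine Subgroup.relIndex_eq_one.1 ?_
      rcases Nat.eq_zero_or_pos i with rfl | hipos
      · simpa using hi
      · exact absurd hodd (by simp [Nat.even_pow, hipos.ne', parity_simps])
    have htop : im R = ⊤ := eq_top_iff.2 (hfr ▸ sup_le hle hMle)
    intro y hy
    obtain ⟨y', ⟨-, hy'W⟩, e⟩ := (htop ▸ Subgroup.mem_top (π ⟨y, hy⟩) : π ⟨y, hy⟩ ∈ im R)
    have h1 : π (y'⁻¹ * ⟨y, hy⟩) = 1 := by rw [map_mul, map_inv, e, inv_mul_cancel]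
    have h2 := hUW (hQU ((hπ1 _).1 h1))
    simpa using mul_mem hy'W h2
  by_cases hX₁e : X₁ = X
  · -- then `T` is trivial and `K` is everything
    have hNtop : Subgroup.normalizer (T : Set (X ⧸ O)) = ⊤ := by
      rw [eq_top_iff]
      intro q _
      obtain ⟨y, rfl⟩ := hπs q
      obtain ⟨z, hz, e⟩ := hX₁e.ge y.2
      exact (show z = y from Subtype.ext e) ▸ hz
    haveI : T.Normal := Subgroup.normalizer_eq_top_iff.1 hNtop
    have hTbot : T = ⊥ := by
      rw [eq_bot_iff, ← hOq]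
      exact Base.le_pCore ((P.2).map _)
    refine hMR ?_
    have hMK : M = K := by
      refine le_antisymm (Base.le_pPrimeCore ?_) hKM
      have h := Sylow.not_dvd_index P
      have hPbot : (P : Subgroup M) = ⊥ :=
        (Subgroup.map_eq_bot_iff_of_injective _ M.subtype_injective).1 hTbot
      rw [hPbot, Subgroup.index_bot] at h
      exact (Nat.prime_two.coprime_iff_not_dvd.2 h).symm
    have h2 : pCore 2 ((X ⧸ O) ⧸ K) = ⊥ := by
      rw [← Subgroup.map_comap_eq_self_of_surjective (QuotientGroup.mk'_surjective K)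
        (pCore 2 ((X ⧸ O) ⧸ K)), ← hM, hMK]
      exact QuotientGroup.map_mk'_self K
    have hKtop' : K = ⊤ := by
      by_contra hne
      haveI : Nontrivial ((X ⧸ O) ⧸ K) := by
        rw [← Finite.one_lt_card_iff_nontrivial, ← Subgroup.index_eq_card]
        exact Subgroup.one_lt_index_of_ne_top hne
      haveI : Group.IsSolvable ((X ⧸ O) ⧸ K) :=
        Group.isSolvable_of_surjective (QuotientGroup.mk'_surjective K)
      obtain ⟨p, N, hp, hNn, hNbot, hNp⟩ := Coprime.exists_normal_pgroup (G := (X ⧸ O) ⧸ K)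
      haveI := hNn
      rcases eq_or_ne p 2 with rfl | hp2
      · exact hNbot (eq_bot_iff.2 (h2 ▸ Base.le_pCore hNp))
      · refine hNbot (eq_bot_iff.2 ?_)
        rw [← Base.pPrimeCore_quotient_pPrimeCore 2 (X ⧸ O)]
        refine Base.le_pPrimeCore ?_
        haveI : Fact p.Prime := ⟨hp⟩
        obtain ⟨j, hj⟩ := IsPGroup.iff_card.1 hNp
        rw [hj]
        exact ((Nat.coprime_primes hp Nat.prime_two).2 hp2).pow_left j
    rw [hNtop, ← hKtop']
    exact hKR
  · refine hMR ?_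
    have hlt : Nat.card X₁ < Nat.card X :=
      lt_of_not_ge fun hge => hX₁e (Subgroup.eq_of_le_of_card_ge hX₁X hge)
    have hUX₁ : U ≤ X₁ := fun y hy => by
      refine ⟨⟨y, hUX hy⟩, ?_, rfl⟩
      show π ⟨y, hUX hy⟩ ∈ Subgroup.normalizer (T : Set (X ⧸ O))
      have hyU : π ⟨y, hUX hy⟩ ∈ im U := himmem _ hy
      refine mem_normalizer_of_conj_mem ?_
      intro z hz
      rw [hTeq] at hz ⊢
      exact ⟨(im U).mul_mem ((im U).mul_mem hyU hz.1) ((im U).inv_mem hyU),
        ‹M.Normal›.conj_mem _ hz.2 _⟩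
    have hchar₁ : Cfsg.IsOfCharacteristicTwo X₁ := by
      have hQX₁ : Q ≤ X₁ := hQU.trans hUX₁
      haveI : (Q.subgroupOf X₁).Normal :=
        (Subgroup.normal_subgroupOf_iff hQX₁).2 fun q g hq hg => conj_mem (hXQ (hX₁X hg)) hq
      have hle : Q.subgroupOf X₁ ≤ pCore 2 X₁ :=
        Base.le_pCore (hQp.comap_of_injective X₁.subtype Subtype.val_injective)
      intro y hy
      refine hle (Subgroup.mem_subgroupOf.2 (hCQ _ (hX₁X y.2) (Subgroup.mem_centralizer_iff.2
        fun q hq => ?_)))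
      exact congrArg Subtype.val (Subgroup.mem_centralizer_iff.1 hy ⟨q, hQX₁ hq⟩
        (hle (Subgroup.mem_subgroupOf.2 hq)))
    have hrec := ih X₁ (by omega) hUX₁ (fun P hP hle hPX => hsyl P hP hle (hPX.trans hX₁X))
      (Coprime.isSolvable_of_le hX₁X hsol)
      (fun h => hfree (Fusion.involves_of_injective (Subgroup.inclusion hX₁X)
        (Subgroup.inclusion_injective _) h))
      hchar₁ ((inf_le_inf_right _ hX₁X).trans hJ)
    intro q hq
    obtain ⟨y, rfl⟩ := hπs q
    exact hRmem y (hrec ⟨y, hq, rfl⟩)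

/-- In a solvable group of characteristic two without a section `S₄` and with Sylow subgroup `U`,
the subgroup `W` is normal as soon as it is normalised by the normalizer of `Jel U`. -/
theorem le_normalizer {U L W X : Subgroup G} (hU : IsPGroup 2 U) (hW : IsElementaryAbelian 2 W)
    (hWU : W ≤ U) (hUW : U ≤ Subgroup.normalizer (W : Set G))
    (hWA : ∀ A, MaxEl U A → W ≤ A) (hUL : U ≤ L) (hbdd : Bdd L W) (hUX : U ≤ X)
    (hsyl : ∀ P : Subgroup G, IsPGroup 2 P → U ≤ P → P ≤ X → P = U)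
    (hsol : Group.IsSolvable X) (hfree : ¬ Involves (Perm (Fin 4)) X)
    (hchar : Cfsg.IsOfCharacteristicTwo X)
    (hJ : X ⊓ Subgroup.normalizer (Jel U : Set G) ≤ Subgroup.normalizer (W : Set G)) :
    X ≤ Subgroup.normalizer (W : Set G) :=
  le_normalizer_aux hU hW hWU hUW hWA hUL hbdd _ X le_rfl hUX hsyl hsol hfree hchar hJ

end CfsgLib.LocalEven.S4W
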